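import Cfsg.Agent.DerangeIdx.Assembly
import Cfsg.Agent.DerIdx.Semireg

/-!
# A large index forces a regular normal subgroup and a Frobenius action
-/

set_option autoImplicit false
set_option linter.unusedSectionVars false
set_option linter.style.haveILetI false

namespace Cfsg.Agent.DerangeIdx

open MulAction
open scoped Classical

variable {G Ω : Type*} [Group G] [Finite G] [MulAction G Ω] [Finite Ω] [IsPretransitive G Ω]
  [FaithfulSMul G Ω] {D : Subgroup G} [D.Normal] {r a : ℕ} [Fact r.Prime]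

/-- The complement in the normalizer acts semiregularly on the regular subgroup. -/
theorem RegSylow.semiregular (RS : RegSylow D Ω r) (h : Ext D Ω) (hn : Nat.card Ω = r ^ a)
    (hbig : Nat.card Ω < (D.index + 1) ^ 2) (x : Ω) :
    ∀ g ∈ RS.compl x, ∀ u ∈ RS.R, Commute g u → u ≠ 1 → g = 1 := by
  have hc : IsMulCommutative RS.R := ⟨⟨fun u v => Subtype.ext (RS.comm u u.2 v v.2).eq⟩⟩
  letI : CommGroup RS.R :=
    { (inferInstance : Group RS.R) with mul_comm := hc.is_comm.comm }
  letI := conjAction RS.R (RS.compl x) inf_le_left hc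
  have hsm : ∀ (g : RS.compl x) (u : RS.R),
      ((Additive.toMul (g • Additive.ofMul u) : RS.R) : G) = (g : G) * (u : G) * (g : G)⁻¹ :=
    fun g u => rfl
  haveI : FaithfulSMul (RS.compl x) (Additive RS.R) := ⟨fun {g₁ g₂} e => by
    refine Subtype.ext (FaithfulSMul.eq_of_smul_eq_smul (α := Ω) fun z => ?_)
    obtain ⟨u, hu, rfl⟩ := RS.exists_mem x z
    have e1 := congrArg (fun w : Additive RS.R => ((Additive.toMul w : RS.R) : G))
      (e (Additive.ofMul ⟨u, hu⟩))
    simp only [hsm] at e1
    have e2 : ∀ g : RS.compl x, (g : G) • u • x = ((g : G) * u * (g : G)⁻¹) • x := fun g => by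
      have hx' : (g : G)⁻¹ • x = x := inv_smul_eq_iff.mpr (Eq.symm g.2.2)
      rw [mul_smul, mul_smul, hx']
    rw [e2, e2, e1]⟩
  let B : Subgroup (RS.compl x) := D.subgroupOf (RS.compl x)
  have hV : Nat.card (Additive RS.R) = r ^ a :=
    ((Nat.card_congr Additive.toMul).trans (RS.card_eq x)).trans hn
  have hidx : B.index = D.index := relIndex_eq_index (RS.compl_sup x)
  have hbigB : DerIdx.Big (Additive RS.R) B := by
    refine ⟨fun g hg v hv => ?_, by rw [hidx, hV, ← hn]; exact hbig⟩
    have e1 : (g : G) * ((Additive.toMul v : RS.R) : G) * (g : G)⁻¹ =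
        ((Additive.toMul v : RS.R) : G) :=
      congrArg (fun w : Additive RS.R => ((Additive.toMul w : RS.R) : G)) hv
    have h1 : ((Additive.toMul v : RS.R) : G) = 1 :=
      RS.fpf_outside h g.2 hg (Additive.toMul v : RS.R).2 (mul_inv_eq_iff_eq_mul.mp e1)
    exact Additive.toMul.injective (Subtype.ext h1)
  have hcop : (Nat.card B).Coprime r := by
    refine Nat.Coprime.coprime_dvd_left ?_ (RS.coprime x)
    exact Subgroup.card_dvd_of_injective
      ({ toFun := fun g => ⟨⟨((g : RS.compl x) : G), g.2⟩, (g : RS.compl x).2.2⟩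
         map_one' := rfl
         map_mul' := fun _ _ => rfl } : B →* stabilizer D x)
      (fun g g' e => Subtype.ext (Subtype.ext
        (congrArg (fun w : stabilizer D x => ((w : D) : G)) e)))
  intro g hg u hu hgu hu1
  by_cases hgD : g ∈ D
  · have h1 := DerIdx.semiregular hbigB le_rfl Fact.out hV hcop (⟨g, hg⟩ : RS.compl x) hgD
      (Additive.ofMul ⟨u, hu⟩)
      (fun e => hu1 (congrArg (fun w : Additive RS.R => ((Additive.toMul w : RS.R) : G)) e))
      (Additive.toMul.injective (Subtype.ext (mul_inv_eq_iff_eq_mul.mpr hgu)))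
    exact congrArg Subtype.val h1
  · exact absurd (RS.fpf_outside h hg hgD hu hgu) hu1

/-- A large index forces an abelian regular normal subgroup with fixed-point-free complement. -/
theorem exists_normal_regular (h : Ext D Ω) (hn2 : 2 ≤ Nat.card Ω)
    (hbig : Nat.card Ω < (D.index + 1) ^ 2) (hk : 2 ≤ D.index) :
    ∃ R : Subgroup G, R.Normal ∧ R ≠ ⊥ ∧ IsMulCommutative R ∧
      ∀ g : G, g ≠ 1 → ∀ p q : Ω, g • p = p → g • q = q → p = q := by
  obtain ⟨x⟩ : Nonempty Ω := (Nat.card_pos_iff.mp (by omega)).1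
  obtain ⟨r, a, hr, ha, hn⟩ := exists_prime_pow h x hk hn2 hbig
  haveI := Fact.mk hr
  obtain ⟨RS⟩ := exists_regSylow h x hbig ha hn
  have hsemi := fun z => RS.semiregular h hn hbig z
  haveI hN := RS.normal_of_semiregular h hn ha hbig hk x (hsemi x)
  refine ⟨RS.R, hN, ?_, ⟨⟨fun u v => Subtype.ext (RS.comm u u.2 v v.2).eq⟩⟩, fun g hg p q hp hq => ?_⟩
  · intro e
    have := RS.card_eq x
    rw [e, Subgroup.card_bot] at this
    omega
  · by_contra hpq
    obtain ⟨u, hu, huq⟩ := RS.exists_mem p q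
    have hgc : g ∈ RS.compl p :=
      Subgroup.mem_inf.mpr ⟨by rw [Subgroup.normalizer_eq_top_iff.mpr hN]; trivial, hp⟩
    have hconj : g * u * g⁻¹ = u := by
      refine RS.eq_of_smul (x := p) (hN.conj_mem u hu g) hu ?_
      have hp' : g⁻¹ • p = p := inv_smul_eq_iff.mpr hp.symm
      rw [mul_smul, hp', mul_smul, huq, hq]
    exact hg (hsemi p g hgc u hu (mul_inv_eq_iff_eq_mul.mp hconj)
      fun e => hpq (by rw [← huq, e, one_smul]))

end Cfsg.Agent.DerangeIdx
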