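import Cfsg.Agent.DerangeIdx.Frob
import Cfsg.Agent.DerIdx.CharPart

/-!
# The regular Sylow subgroup is normal when its complement is semiregular
-/

set_option autoImplicit false
set_option linter.unusedSectionVars false
set_option linter.style.haveILetI false

namespace Cfsg.Agent.DerangeIdx

open MulAction
open scoped Classical

/-- Arithmetic of the character bound: only degree `7` remains. -/
theorem arith_final {n k l : ℕ} (hk : 2 ≤ k) (hl : 2 ≤ l) (hn1 : 2 ≤ n) (hn : n < (k + 1) ^ 2)
    (hd : k * l ∣ n - 1) (h1 : n - 1 ≤ l * (l - 1)) (h2 : n - 1 = l * (l - 1) → l ≤ 3) :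
    n = 7 ∧ k = 2 ∧ l = 3 := by
  obtain ⟨m, hm⟩ := hd
  have hm0 : 1 ≤ m := Nat.one_le_iff_ne_zero.mpr fun e => by rw [e, mul_zero] at hm; omega
  rw [hm] at h1 h2
  have hmul : l * (m * k) ≤ l * (l - 1) :=
    calc l * (m * k) = k * l * m := by ring
      _ ≤ l * (l - 1) := h1
  have hk1 : m * k ≤ l - 1 := Nat.le_of_mul_le_mul_left hmul (by omega)
  have hlk : m * l ≤ k + 1 := by
    by_contra hc
    have h3 : k * (k + 2) ≤ k * (m * l) := Nat.mul_le_mul le_rfl (by omega)
    have h4 : k * l * m = k * (m * l) := by ring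
    have h5 : (k + 1) ^ 2 = k * (k + 2) + 1 := by ring
    omega
  have hm1 : m = 1 := by
    by_contra hm1
    have h3 : 2 * l ≤ m * l := Nat.mul_le_mul (by omega) le_rfl
    have h4 : 2 * k ≤ m * k := Nat.mul_le_mul (by omega) le_rfl
    omega
  subst hm1
  have hlk' : l = k + 1 := by omega
  subst hlk'
  have h3 : k + 1 ≤ 3 := h2 (by rw [mul_one, Nat.add_sub_cancel, mul_comm])
  have hk2 : k = 2 := by omega
  subst hk2
  omega

/-- A divisor of `12` congruent to `1` modulo `7`. -/
theorem eq_one_of_dvd_twelve {q : ℕ} (h1 : q ∣ 12) (h2 : q ≡ 1 [MOD 7]) : q = 1 := by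
  have h3 : q ≤ 12 := Nat.le_of_dvd (by norm_num) h1
  unfold Nat.ModEq at h2
  interval_cases q <;> omega

/-- An element of order dividing `r` lies in any normal subgroup of index prime to `r`. -/
theorem mem_of_pow_eq_one {T : Type*} [Group T] [Finite T] {r : ℕ} [Fact r.Prime] (K : Subgroup T)
    [K.Normal] (hK : ¬ r ∣ K.index) {t : T} (ht : t ^ r = 1) : t ∈ K := by
  rw [← QuotientGroup.eq_one_iff]
  have h1 : orderOf (t : T ⧸ K) ∣ r := orderOf_dvd_of_pow_eq_one (by
    rw [← QuotientGroup.mk_pow, ht, QuotientGroup.mk_one])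
  rcases (Nat.dvd_prime Fact.out).mp h1 with e | e
  · exact orderOf_eq_one_iff.mp e
  · exact absurd (e ▸ orderOf_dvd_natCard (t : T ⧸ K)) hK

variable {G Ω : Type*} [Group G] [Finite G] [MulAction G Ω] [Finite Ω] [IsPretransitive G Ω]
  [FaithfulSMul G Ω] {D : Subgroup G} [D.Normal] {r a : ℕ} [Fact r.Prime]

/-- In degree `7` with `k = 2` and `l = 3` the regular subgroup is normal in every transitive
subgroup of `D` containing it. -/
theorem seven_contra (RS : RegSylow D Ω r) (h : Ext D Ω) (x : Ω) (hn : Nat.card Ω = 7)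
    (hk : D.index = 2) {T : Subgroup G} (hTD : T ≤ D) (hRT : RS.R ≤ T)
    (hsemi : ∀ g ∈ RS.compl x, ∀ u ∈ RS.R, Commute g u → u ≠ 1 → g = 1)
    (hl : Nat.card (T ⊓ RS.compl x : Subgroup G) = 3)
    (hlN : Nat.card (Subgroup.normalizer ((RS.R.subgroupOf T : Subgroup T) : Set T)) = 21) :
    (RS.R.subgroupOf T).Normal := by
  haveI : Nonempty Ω := ⟨x⟩
  haveI : Fact (Nat.Prime 7) := ⟨by norm_num⟩
  let K : Subgroup G := stabilizer G x ⊓ D
  letI : Fintype (Quotient (orbitRel K Ω)) := Fintype.ofFinite _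
  have hK : 3 ≤ Nat.card (Quotient (orbitRel K Ω)) := by
    have h3 := card_suborbits h x (by omega)
    rw [hk] at h3
    let e : Quotient (orbitRel (D.subgroupOf (stabilizer G x)) Ω) →
        Quotient (orbitRel K Ω) := Quotient.map' id (fun p q hpq => by
      obtain ⟨g, hg⟩ := hpq
      exact ⟨⟨((g : stabilizer G x) : G), (g : stabilizer G x).2, g.2⟩, hg⟩)
    refine le_trans h3 (Nat.card_le_card_of_injective e ?_)
    intro p q
    induction p using Quotient.inductionOn' with
    | h p =>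
    induction q using Quotient.inductionOn' with
    | h q =>
      intro hpq
      obtain ⟨g, hg⟩ := Quotient.eq''.mp hpq
      exact Quotient.eq''.mpr ⟨⟨⟨g.1, g.2.1⟩, g.2.2⟩, hg⟩
  have hsum : Nat.card Ω = ∑ q : Quotient (orbitRel K Ω), Nat.card (orbit K q.out) := by
    rw [Nat.card_congr (selfEquivSigmaOrbits K Ω), Nat.card_sigma]
  set q₀ : Quotient (orbitRel K Ω) := Quotient.mk'' x with hq₀
  have horb : ∀ q, q ≠ q₀ → 3 ≤ Nat.card (orbit K q.out) := fun q hq => by
    have hne : q.out ≠ x := fun e => hq (by rw [hq₀, ← e]; exact q.out_eq.symm)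
    have hinj : Function.Injective (fun g : (T ⊓ RS.compl x : Subgroup G) =>
        (⟨(g : G) • q.out, ⟨⟨(g : G), g.2.2.2, hTD g.2.1⟩, rfl⟩⟩ : orbit K q.out)) := by
      intro g g' e
      have e' : (g : G) • q.out = (g' : G) • q.out := congrArg Subtype.val e
      obtain ⟨u, hu, hux⟩ := RS.exists_mem x q.out
      set w := (g' : G)⁻¹ * (g : G) with hw
      have hwc : w ∈ RS.compl x := mul_mem (inv_mem g'.2.2) g.2.2
      have hwq : w • q.out = q.out := by rw [hw, mul_smul, e', inv_smul_smul]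
      have hwu : w * u * w⁻¹ = u := by
        refine RS.eq_of_smul (x := x) ((Subgroup.mem_normalizer_iff.mp hwc.1 u).mp hu) hu ?_
        have hwx : w⁻¹ • x = x := inv_smul_eq_iff.mpr (Eq.symm hwc.2)
        rw [mul_smul, hwx, mul_smul, hux, hwq]
      have hu1 : u ≠ 1 := fun e1 => hne (by rw [← hux, e1, one_smul])
      have := hsemi w hwc u hu (mul_inv_eq_iff_eq_mul.mp hwu) hu1
      exact Subtype.ext (inv_mul_eq_one.mp this).symm
    rw [← hl]
    exact Nat.card_le_card_of_injective _ hinj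
  have hrest : ∑ q ∈ Finset.univ.erase q₀, Nat.card (orbit K q.out) + 1 = 7 := by
    have e : Nat.card (orbit K q₀.out) = 1 := by
      have hm : q₀.out ∈ orbit K x := orbitRel_apply.mp (Quotient.mk_out (s := orbitRel K Ω) x)
      rw [orbit_eq_iff.mpr hm]
      have : orbit K x = {x} := Set.eq_singleton_iff_unique_mem.mpr
        ⟨mem_orbit_self x, by rintro _ ⟨g, rfl⟩; exact g.2.1⟩
      rw [this, Nat.card_unique]
    rw [hn, ← Finset.sum_erase_add _ _ (Finset.mem_univ q₀), e] at hsum
    exact hsum.symm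
  have hcardE : (Finset.univ.erase q₀).card = 2 := by
    have h1 : (Finset.univ.erase q₀).card * 3 ≤ 6 := by
      have := Finset.sum_le_sum (s := Finset.univ.erase q₀) (f := fun _ => 3)
        (g := fun q => Nat.card (orbit K q.out)) fun q hq => horb q (Finset.mem_erase.mp hq).1
      rw [Finset.sum_const, smul_eq_mul] at this
      omega
    have h2 : (Finset.univ.erase q₀).card + 1 = Nat.card (Quotient (orbitRel K Ω)) := by
      rw [Finset.card_erase_add_one (Finset.mem_univ _), Finset.card_univ, Nat.card_eq_fintype_card]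
    omega
  obtain ⟨A, B, hAB, hE⟩ := Finset.card_eq_two.mp hcardE
  have hA0 : A ≠ q₀ := (Finset.mem_erase.mp (hE ▸ Finset.mem_insert_self A {B})).1
  have hB0 : B ≠ q₀ := (Finset.mem_erase.mp
    (hE ▸ Finset.mem_insert_of_mem (Finset.mem_singleton_self B))).1
  rw [hE, Finset.sum_pair hAB] at hrest
  have hA3 : Nat.card (orbit K A.out) = 3 := by
    have := horb A hA0; have := horb B hB0; omega
  have hB3 : Nat.card (orbit K B.out) = 3 := by
    have := horb B hB0; omega
  have hK36 : Nat.card K ∣ 36 := by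
    let φ : K →* Equiv.Perm (orbit K A.out) × Equiv.Perm (orbit K B.out) :=
      (toPermHom K (orbit K A.out)).prod (toPermHom K (orbit K B.out))
    have hφ : Function.Injective φ := by
      rw [injective_iff_map_eq_one]
      intro g hg
      apply Subtype.ext
      rw [Subgroup.coe_one]
      refine FaithfulSMul.eq_of_smul_eq_smul (α := Ω) fun z => ?_
      rw [one_smul]
      have hz : (Quotient.mk'' z : Quotient (orbitRel K Ω)) ∈ insert q₀ ({A, B} : Finset _) := by
        rw [← hE, Finset.insert_erase (Finset.mem_univ _)]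
        exact Finset.mem_univ _
      simp only [Finset.mem_insert, Finset.mem_singleton] at hz
      have hmem : ∀ q : Quotient (orbitRel K Ω), Quotient.mk'' z = q → z ∈ orbit K q.out := by
        rintro q rfl
        exact mem_orbit_symm.mp (orbitRel_apply.mp (Quotient.mk_out (s := orbitRel K Ω) z))
      rcases hz with hz | hz | hz
      · obtain ⟨c, hc⟩ := Quotient.eq''.mp hz
        have hzx : z = x := by rw [← hc]; exact c.2.1
        rw [hzx]; exact g.2.1
      · exact congrArg (fun p : orbit K A.out => (p : Ω))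
          (Equiv.Perm.ext_iff.mp (congrArg Prod.fst hg) ⟨z, hmem A hz⟩)
      · exact congrArg (fun p : orbit K B.out => (p : Ω))
          (Equiv.Perm.ext_iff.mp (congrArg Prod.snd hg) ⟨z, hmem B hz⟩)
    have := Subgroup.card_dvd_of_injective φ hφ
    rwa [Nat.card_prod, Nat.card_perm, Nat.card_perm, hA3, hB3] at this
  haveI : IsPretransitive T Ω := ⟨fun p q => by
    obtain ⟨v, hv, hvq⟩ := RS.exists_mem p q
    exact ⟨⟨v, hRT hv⟩, hvq⟩⟩
  set R' : Subgroup T := RS.R.subgroupOf T with hR'def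
  have hR7 : Nat.card R' = 7 := by
    rw [hR'def, Nat.card_congr (Subgroup.subgroupOfEquivOfLe hRT).toEquiv, RS.card_eq x, hn]
  have hstab : Nat.card (stabilizer T x) ∣ 36 := by
    refine dvd_trans (Subgroup.card_dvd_of_injective
      ({ toFun := fun g => ⟨((g : T) : G), g.2, hTD (g : T).2⟩
         map_one' := rfl
         map_mul' := fun _ _ => rfl } : stabilizer T x →* K) ?_) hK36
    intro g g' e
    exact Subtype.ext (Subtype.ext (congrArg (fun w : K => (w : G)) e))
  have hcardT : Nat.card (stabilizer T x) * 7 = Nat.card T := by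
    rw [← hn, ← index_stabilizer_of_transitive T x]
    exact (stabilizer T x).card_mul_index
  have hRidx : R'.index = Nat.card (stabilizer T x) := by
    have := R'.card_mul_index
    rw [hR7] at this
    omega
  have hndvd : ¬ 7 ∣ R'.index := fun hd => by
    rw [hRidx] at hd
    exact absurd (Nat.le_of_dvd (by norm_num) (hd.trans hstab)) (fun _ => by
      have := hd.trans hstab
      norm_num at this)
  have hp : IsPGroup 7 R' := IsPGroup.of_card (n := 1) (by rw [hR7, pow_one])
  let P : Sylow 7 T := hp.toSylow hndvd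
  have hq := P.card_eq_index_normalizer
  have hmod := card_sylow_modEq_one 7 T
  rw [hq] at hmod
  have e21 : 21 * (Subgroup.normalizer (R' : Set T)).index = Nat.card (stabilizer T x) * 7 := by
    rw [hcardT, ← hlN]
    exact (Subgroup.normalizer (R' : Set T)).card_mul_index
  have hq12 : (Subgroup.normalizer (R' : Set T)).index ∣ 12 := by
    obtain ⟨c, hc⟩ := hstab
    refine ⟨c, ?_⟩
    have e3 : Nat.card (stabilizer T x) = 3 * (Subgroup.normalizer (R' : Set T)).index := by omega
    rw [e3] at hc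
    linarith
  have h1 := eq_one_of_dvd_twelve hq12 hmod
  exact Subgroup.normalizer_eq_top_iff.mp (Subgroup.index_eq_one.mp h1)

/-- If the complement in the normalizer is semiregular on `R`, then `R` is normal. -/
theorem RegSylow.normal_of_semiregular (RS : RegSylow D Ω r) (h : Ext D Ω)
    (hn : Nat.card Ω = r ^ a) (ha : 0 < a) (hbig : Nat.card Ω < (D.index + 1) ^ 2)
    (hk : 2 ≤ D.index) (x : Ω)
    (hsemi : ∀ g ∈ RS.compl x, ∀ u ∈ RS.R, Commute g u → u ≠ 1 → g = 1) :
    RS.R.Normal := by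
  haveI : Nonempty Ω := ⟨x⟩
  have hn2 : 2 ≤ Nat.card Ω := by
    rw [hn]; exact Nat.one_lt_pow ha.ne' (Fact.out : r.Prime).one_lt
  have hcc := fun u (hu : u ∈ RS.R) (hu1 : u ≠ 1) => RS.centralizer_le h hn hsemi hu hu1
  let K : Subgroup D := Subgroup.normalClosure ((RS.R.subgroupOf D : Subgroup D) : Set D)
  haveI : K.Normal := Subgroup.normalClosure_normal
  let T : Subgroup G := K.map D.subtype
  have hTD : T ≤ D := Subgroup.map_subtype_le K
  have hRT : RS.R ≤ T := fun u hu =>
    ⟨⟨u, RS.le hu⟩, Subgroup.subset_normalClosure hu, rfl⟩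
  have hTnorm : ∀ d ∈ D, ∀ t ∈ T, d * t * d⁻¹ ∈ T := by
    rintro d hd _ ⟨t, ht, rfl⟩
    exact ⟨⟨d, hd⟩ * t * ⟨d, hd⟩⁻¹, (inferInstance : K.Normal).conj_mem t ht _, rfl⟩
  haveI : IsPretransitive T Ω := ⟨fun p q => by
    obtain ⟨v, hv, hvq⟩ := RS.exists_mem p q
    exact ⟨⟨v, hRT hv⟩, hvq⟩⟩
  haveI : FaithfulSMul T Ω := ⟨fun {g₁ g₂} e => Subtype.ext (FaithfulSMul.eq_of_smul_eq_smul
    (α := Ω) (m₁ := (g₁ : G)) (m₂ := (g₂ : G)) e)⟩
  set R' : Subgroup T := RS.R.subgroupOf T with hR'def
  have hcardR : Nat.card R' = Nat.card Ω := by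
    rw [hR'def, Nat.card_congr (Subgroup.subgroupOfEquivOfLe hRT).toEquiv, RS.card_eq x]
  have hp : IsPGroup r R' := IsPGroup.of_card (n := a) (by rw [hcardR, hn])
  have hndvd : ¬ r ∣ R'.index := fun hd => by
    have h1 : R'.index = Nat.card (stabilizer T x) := by
      have e1 := R'.card_mul_index
      have e2 := (stabilizer T x).card_mul_index
      rw [index_stabilizer_of_transitive T x] at e2
      rw [hcardR] at e1
      rw [← e2, mul_comm] at e1
      exact Nat.eq_of_mul_eq_mul_right (by omega) e1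
    have h2 : Nat.card (stabilizer T x) ∣ Nat.card (stabilizer D x) :=
      Subgroup.card_dvd_of_injective
        ({ toFun := fun g => ⟨⟨((g : T) : G), hTD (g : T).2⟩, g.2⟩
           map_one' := rfl
           map_mul' := fun _ _ => rfl } : stabilizer T x →* stabilizer D x)
        (fun g g' e => Subtype.ext (Subtype.ext
          (congrArg (fun w : stabilizer D x => ((w : D) : G)) e)))
    exact (Fact.out : r.Prime).coprime_iff_not_dvd.mp (RS.coprime x).symm
      ((h1 ▸ hd).trans h2)
  let P : Sylow r T := hp.toSylow hndvd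
  have hPcoe : (P : Subgroup T) = R' := hp.toSylow_coe hndvd
  have hcomm' : ∀ u ∈ R', ∀ v ∈ R', Commute u v := fun u hu v hv =>
    Subtype.ext (RS.comm u hu v hv).eq
  haveI : IsMulCommutative R' :=
    ⟨⟨fun u v => Subtype.ext (hcomm' u u.2 v v.2).eq⟩⟩
  have hnormG : ∀ g : T, g ∈ Subgroup.normalizer (R' : Set T) ↔
      (g : G) ∈ Subgroup.normalizer (RS.R : Set G) := fun g => by
    constructor
    · intro hg
      rw [Subgroup.mem_normalizer_iff]
      intro v
      constructor
      · intro hv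
        exact (Subgroup.mem_normalizer_iff.mp hg ⟨v, hRT hv⟩).mp hv
      · intro hv
        have hmem := (Subgroup.mem_normalizer_iff.mp hg (g⁻¹ * ⟨_, hRT hv⟩ * g)).mpr (by
          change (g : G) * ((g : G)⁻¹ * ((g : G) * v * (g : G)⁻¹) * g) * (g : G)⁻¹ ∈ RS.R
          simpa [mul_assoc] using hv)
        change (g : G)⁻¹ * ((g : G) * v * (g : G)⁻¹) * g ∈ RS.R at hmem
        simpa [mul_assoc] using hmem
    · intro hg
      rw [Subgroup.mem_normalizer_iff]
      intro v
      exact Subgroup.mem_normalizer_iff.mp hg (v : G)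
  -- the normalizer in `T`
  set NT := Subgroup.normalizer (R' : Set T) with hNT
  set LT : Subgroup G := T ⊓ RS.compl x with hLT
  have hRN : R' ≤ NT := Subgroup.le_normalizer
  have hcardN : Nat.card NT = Nat.card LT * Nat.card R' := by
    rw [← Nat.card_prod]
    have hmap : ∀ (l : LT) (u : R'), (⟨(l : G), l.2.1⟩ : T) * (u : T) ∈ NT := fun l u =>
      mul_mem ((hnormG _).mpr l.2.2.1) (hRN u.2)
    refine (Nat.card_congr (Equiv.ofBijective (fun p : LT × R' =>
      (⟨_, hmap p.1 p.2⟩ : NT)) ⟨?_, ?_⟩)).symm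
    · rintro ⟨l, u⟩ ⟨l', u'⟩ e
      have e' : (l : G) * ((u : T) : G) = (l' : G) * ((u' : T) : G) :=
        congrArg (fun w : NT => ((w : T) : G)) e
      have hm : (l' : G)⁻¹ * l = ((u' : T) : G) * ((u : T) : G)⁻¹ := by
        rw [eq_mul_inv_iff_mul_eq, mul_assoc, e', inv_mul_cancel_left]
      have hw : (l' : G)⁻¹ * l = 1 := RS.free _ (hm ▸ mul_mem u'.2 (inv_mem u.2)) x
        (mul_mem (inv_mem l'.2.2) l.2.2 : (l' : G)⁻¹ * l ∈ RS.compl x).2
      have hl : l = l' := Subtype.ext (inv_mul_eq_one.mp hw).symm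
      subst hl
      exact Prod.ext rfl (Subtype.ext (Subtype.ext (mul_left_cancel e')))
    · intro g
      have hgN := (hnormG (g : T)).mp g.2
      obtain ⟨u, hu, hl⟩ := RS.normalizer_decomp x hgN
      set l := u⁻¹ * ((g : T) : G) with hl'
      have hlT : l ∈ T := mul_mem (inv_mem (hRT hu)) (g : T).2
      have hv : l⁻¹ * u * l ∈ RS.R := by
        have := (Subgroup.mem_normalizer_iff.mp (inv_mem hl.1) u).mp hu
        simpa using this
      refine ⟨(⟨l, hlT, hl⟩, ⟨⟨_, hRT hv⟩, hv⟩), Subtype.ext (Subtype.ext ?_)⟩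
      change l * (l⁻¹ * u * l) = ((g : T) : G)
      rw [hl']; group
  have hdvd : D.index * Nat.card LT ∣ Nat.card Ω - 1 := by
    refine dvd_trans ?_ (RS.card_compl_dvd hsemi)
    have e1 : Nat.card (D.subgroupOf (RS.compl x)) * D.index = Nat.card (RS.compl x) := by
      rw [← relIndex_eq_index (RS.compl_sup x)]
      exact (D.subgroupOf (RS.compl x)).card_mul_index
    rw [← e1, mul_comm D.index]
    refine Nat.mul_dvd_mul_right ?_ _
    exact Subgroup.card_dvd_of_injective
      ({ toFun := fun g => ⟨⟨(g : G), g.2.2⟩, hTD g.2.1⟩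
         map_one' := rfl
         map_mul' := fun _ _ => rfl } : LT →* D.subgroupOf (RS.compl x))
      (fun g g' e => Subtype.ext (congrArg
        (fun w : D.subgroupOf (RS.compl x) => ((w : RS.compl x) : G)) e))
  have hcover : Subgroup.normalizer (RS.R : Set G) ⊔ D = ⊤ := RS.cover
  -- normality of `R'` in `T` suffices
  suffices hR'N : R'.Normal by
    haveI := hR'N
    have hDN : D ≤ Subgroup.normalizer (RS.R : Set G) := fun d hd => by
      rw [Subgroup.mem_normalizer_iff]
      suffices key : ∀ d ∈ D, ∀ v ∈ RS.R, d * v * d⁻¹ ∈ RS.R by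
        refine fun v => ⟨key d hd v, fun hv => ?_⟩
        have := key d⁻¹ (inv_mem hd) _ hv
        simpa [mul_assoc] using this
      intro d hd v hv
      have hmem : d * v * d⁻¹ ∈ T := hTnorm d hd v (hRT hv)
      exact mem_of_pow_eq_one R' hndvd (t := (⟨_, hmem⟩ : T))
        (Subtype.ext (by rw [Subgroup.coe_pow, conj_pow, RS.exp v hv, mul_one, mul_inv_cancel]; rfl))
    refine Subgroup.normalizer_eq_top_iff.mp (eq_top_iff.mpr (hcover.ge.trans (sup_le le_rfl hDN)))
  by_contra hnn
  have hl2 : 2 ≤ Nat.card LT := by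
    by_contra hlt
    have hl1 : Nat.card LT = 1 := by
      have : 0 < Nat.card LT := Nat.card_pos
      omega
    refine hnn ?_
    have hNR : NT = R' := (Subgroup.eq_of_le_of_card_ge hRN (by rw [hcardN, hl1, one_mul])).symm
    have htop := eq_top_of_normalizer_le hn P (by rw [hPcoe]; exact hNR.le)
      (by rw [hPcoe]; exact hcomm')
    rw [hPcoe] at htop
    rw [htop]
    infer_instance
  have hgen : ∀ K' : Subgroup T, K'.Normal → R' ≤ K' → K' = ⊤ := by
    intro K' hK' hRK'
    haveI := hK'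
    have hidx : ¬ r ∣ K'.index := fun hd => hndvd (hd.trans (Subgroup.index_dvd_of_le hRK'))
    have hKle : K ≤ (K'.map T.subtype).comap D.subtype := by
      refine (Subgroup.closure_le _).mpr fun y hy => ?_
      obtain ⟨v, hv, hconj⟩ := Group.mem_conjugatesOfSet_iff.mp hy
      obtain ⟨d, rfl⟩ := isConj_iff.mp hconj
      have hmem : ((d * v * d⁻¹ : D) : G) ∈ T := hTnorm d d.2 _ (hRT hv)
      refine ⟨⟨_, hmem⟩, mem_of_pow_eq_one K' hidx (r := r) (Subtype.ext ?_), rfl⟩
      rw [Subgroup.coe_pow, Subgroup.coe_one]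
      change ((d : G) * (v : G) * (d : G)⁻¹) ^ r = 1
      rw [conj_pow, RS.exp (v : G) hv, mul_one, mul_inv_cancel]
    refine eq_top_iff.mpr fun t _ => ?_
    obtain ⟨d, hd, hdt⟩ := t.2
    obtain ⟨k', hk', hk'e⟩ := hKle hd
    have : k' = t := Subtype.ext (hk'e.trans hdt)
    exact this ▸ hk'
  have h2t : ¬ IsMultiplyPretransitive T Ω 2 := by
    intro h2
    have h3 := card_suborbits h x hn2
    haveI : Nontrivial Ω := Finite.one_lt_card_iff_nontrivial.mp (by omega)
    obtain ⟨y, hy⟩ := exists_ne x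
    rw [is_two_pretransitive_iff] at h2
    have hsurj : Function.Surjective (fun b : Bool =>
        (Quotient.mk'' (if b then x else y) :
          Quotient (orbitRel (D.subgroupOf (stabilizer G x)) Ω))) := by
      intro q
      induction q using Quotient.inductionOn' with
      | h z =>
        by_cases hz : z = x
        · exact ⟨true, by simp [hz]⟩
        · obtain ⟨t, ht1, ht2⟩ := h2 (Ne.symm hz) (Ne.symm hy)
          exact ⟨false, Quotient.eq''.mpr ⟨⟨⟨(t : G), ht1⟩, hTD t.2⟩, ht2⟩⟩
    have h4 := Nat.card_le_card_of_surjective _ hsurj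
    rw [Nat.card_eq_fintype_card (α := Bool), Fintype.card_bool] at h4
    omega
  have hreg : Function.Bijective (fun u : R' => ((u : T) : T) • x) := by
    refine ⟨fun u v e => Subtype.ext (Subtype.ext (RS.eq_of_smul u.2 v.2 e)), fun z => ?_⟩
    obtain ⟨v, hv, hvz⟩ := RS.exists_mem x z
    exact ⟨⟨⟨v, hRT hv⟩, hv⟩, hvz⟩
  have hcc' : ∀ u ∈ R', u ≠ 1 → Subgroup.centralizer ({u} : Set T) ≤ R' := fun u hu hu1 g hg =>
    hcc u hu (fun e => hu1 (Subtype.ext e)) (Subgroup.mem_centralizer_iff.mpr (by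
      rintro w rfl
      exact congrArg Subtype.val (Subgroup.mem_centralizer_iff.mp hg u rfl)))
  obtain ⟨hb1, hb2⟩ := DerIdx.charPart R' x hreg hcc' hgen h2t (Nat.card LT) hcardN hl2
  obtain ⟨h7, hk2, hl3⟩ := arith_final hk hl2 hn2 hbig hdvd hb1 hb2
  exact hnn (seven_contra RS h x h7 hk2 hTD hRT hsemi hl3
    (by rw [← hR'def, ← hNT, hcardN, hl3, hcardR, h7]))

end Cfsg.Agent.DerangeIdx
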