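import Cfsg.Agent.DerangeIdx.Decomp

/-!
# A class two normal subgroup with a non-central element of prime order
-/

set_option autoImplicit false
set_option linter.unusedSectionVars false
set_option linter.style.haveILetI false

namespace Cfsg.Agent.DerangeIdx

open MulAction Finset
open scoped Classical commutatorElement

variable {L V : Type*} [Group L] [Finite L] [AddCommGroup V] [Finite V] [DistribMulAction L V]
variable {W : Subgroup L} [W.Normal] {r : ℕ}

/-- The data of the class two case. -/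
structure Two (W T B : Subgroup L) (z : L) (s : ℕ) (V : Type*) [AddCommGroup V]
    [DistribMulAction L V] : Prop where
  Tle : T ≤ W
  Tnormal : T.Normal
  Bnormal : B.Normal
  Ble : B ≤ T
  Bcyc : IsCyclic B
  pgrp : IsPGroup s T
  zmem : z ∈ B
  zpow : z ^ s = 1
  zne : z ≠ 1
  zfpf : ∀ v : V, z • v = v → v = 0
  Bcentral : ∀ b ∈ B, ∀ t ∈ T, Commute b t
  comm : ∀ x ∈ T, ∀ y ∈ T, ⁅x, y⁆ ∈ Subgroup.zpowers z
  pow : ∀ x ∈ T, x ^ s ∈ B
  center : ∀ x ∈ T, (∀ y ∈ T, Commute x y) → x ∈ B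
  omega : ∀ b ∈ B, b ^ s = 1 → b ∈ Subgroup.zpowers z

namespace Two

variable {T B : Subgroup L} {z : L} {s : ℕ} [Fact s.Prime]

theorem zT (h : Two W T B z s V) : z ∈ T := h.Ble h.zmem

theorem comm_central (h : Two W T B z s V) {x y t : L} (hx : x ∈ T) (hy : y ∈ T) (ht : t ∈ T) :
    Commute ⁅x, y⁆ t := by
  obtain ⟨i, hi⟩ := h.comm x hx y hy
  rw [← hi]
  exact (h.Bcentral z h.zmem t ht).zpow_left i

theorem comm_mul_left (h : Two W T B z s V) {x y a : L} (hx : x ∈ T) (hy : y ∈ T) (ha : a ∈ T) :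
    ⁅x * y, a⁆ = ⁅x, a⁆ * ⁅y, a⁆ := by
  have e1 : ⁅x * y, a⁆ = x * ⁅y, a⁆ * x⁻¹ * ⁅x, a⁆ := by simp only [commutatorElement_def]; group
  rw [e1, ← (h.comm_central hy ha hx).eq, mul_inv_cancel_right]
  obtain ⟨i, hi⟩ := h.comm x hx a ha
  obtain ⟨j, hj⟩ := h.comm y hy a ha
  rw [← hi, ← hj]
  exact ((Commute.refl z).zpow_zpow j i).eq

theorem comm_mul_right (h : Two W T B z s V) {x y a : L} (hx : x ∈ T) (hy : y ∈ T) (ha : a ∈ T) :
    ⁅a, x * y⁆ = ⁅a, x⁆ * ⁅a, y⁆ := by
  have e1 : ⁅a, x * y⁆ = ⁅a, x⁆ * (x * ⁅a, y⁆ * x⁻¹) := by simp only [commutatorElement_def]; group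
  rw [e1, ← (h.comm_central ha hy hx).eq, mul_inv_cancel_right]

theorem comm_pow_eq_one (h : Two W T B z s V) {x y : L} (hx : x ∈ T) (hy : y ∈ T) :
    ⁅x, y⁆ ^ s = 1 := by
  obtain ⟨i, hi⟩ := h.comm x hx y hy
  rw [← hi, ← zpow_natCast, ← zpow_mul, mul_comm, zpow_mul, zpow_natCast, h.zpow, one_zpow]

/-- The pairing against an element, as a homomorphism. -/
def pairing (h : Two W T B z s V) (a : L) (ha : a ∈ T) : T →* L where
  toFun t := ⁅(t : L), a⁆
  map_one' := by simp [commutatorElement_def]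
  map_mul' x y := h.comm_mul_left x.2 y.2 ha

theorem pairing_apply (h : Two W T B z s V) {a : L} (ha : a ∈ T) (t : T) :
    h.pairing a ha t = ⁅(t : L), a⁆ := rfl

theorem exists_comm_eq (h : Two W T B z s V) {a : L} (ha : a ∈ T) (haB : a ∉ B) {c : L}
    (hc : c ∈ Subgroup.zpowers z) : ∃ t ∈ T, ⁅t, a⁆ = c := by
  obtain ⟨u, hu, hne⟩ : ∃ u ∈ T, ⁅u, a⁆ ≠ 1 := by
    by_contra hcon
    push Not at hcon
    exact haB (h.center a ha fun y hy => (commutatorElement_eq_one_iff_commute.mp (hcon y hy)).symm)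
  haveI : Fact s.Prime := inferInstance
  have hord : orderOf z = s := orderOf_eq_prime h.zpow h.zne
  obtain ⟨i, hi⟩ := h.comm u hu a ha
  have hgen : Subgroup.zpowers ⁅u, a⁆ = Subgroup.zpowers z := by
    refine Subgroup.eq_of_le_of_card_ge (by rw [Subgroup.zpowers_le]; exact h.comm u hu a ha) ?_
    rw [Nat.card_zpowers, Nat.card_zpowers, hord, orderOf_eq_prime (h.comm_pow_eq_one hu ha) hne]
  rw [← hgen] at hc
  obtain ⟨j, hj⟩ := hc
  refine ⟨u ^ j, T.zpow_mem hu j, ?_⟩
  have := (h.pairing a ha).map_zpow ⟨u, hu⟩ j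
  rw [pairing_apply, pairing_apply] at this
  rw [← hj]
  simpa only [Subgroup.coe_zpow] using this

theorem conj_eq {t a c : L} (hc : ⁅t, a⁆ = c) : t * a * t⁻¹ = c * a := by
  rw [← hc, commutatorElement_def]; group

theorem conj_fix {t : L} {a b : L} (hb : t * a * t⁻¹ = b) {v : V} :
    b • (t • v) = t • v ↔ a • v = v := by
  rw [← hb, ← mul_smul, inv_mul_cancel_right, mul_smul, smul_left_cancel_iff]

/-- The number of cosets of `B` in `T`. -/
theorem card_eq (h : Two W T B z s V) : B.relIndex T * Nat.card B = Nat.card T := by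
  rw [Subgroup.relIndex, mul_comm,
    ← Nat.card_congr (Subgroup.subgroupOfEquivOfLe h.Ble).toEquiv]
  exact (B.subgroupOf T).card_mul_index

theorem zpow_fpf (h : Two W T B z s V) {c : L} (hc : c ∈ Subgroup.zpowers z) (hc1 : c ≠ 1)
    {v : V} (hv : c • v = v) : v = 0 := by
  refine h.zfpf v ?_
  have hord : orderOf z = s := orderOf_eq_prime h.zpow h.zne
  have hgen : Subgroup.zpowers c = Subgroup.zpowers z := by
    refine Subgroup.eq_of_le_of_card_ge (by rwa [Subgroup.zpowers_le]) ?_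
    obtain ⟨i, hi⟩ := hc
    have hcs : c ^ s = 1 := by
      rw [← hi, ← zpow_natCast, ← zpow_mul, mul_comm, zpow_mul, zpow_natCast, h.zpow, one_zpow]
    rw [Nat.card_zpowers, Nat.card_zpowers, hord, orderOf_eq_prime hcs hc1]
  have hz : z ∈ Subgroup.zpowers c := hgen ▸ Subgroup.mem_zpowers z
  exact (Subgroup.zpowers_le (g := c) (H := stabilizer L v)).mpr hv hz

/-- The order of `T / B` is at most the square of the dimension. -/
theorem relIndex_le_aux [Fact r.Prime] [Nontrivial V] [Module (ZMod r) V] (h : Two W T B z s V)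
    (hr : ∀ v : V, r • v = 0) (hcop : (Nat.card L).Coprime r) :
    ∃ d : ℕ, r ^ d = Nat.card V ∧ B.relIndex T ≤ d ^ 2 := by
  haveI : Module.Finite (ZMod r) V := Module.Finite.of_finite
  letI := Fintype.ofFinite T
  letI : Fintype (T ⧸ B.subgroupOf T) := Fintype.ofFinite _
  refine ⟨Module.finrank (ZMod r) V, ?_, ?_⟩
  · rw [Module.natCard_eq_pow_finrank (K := ZMod r) (V := V), Nat.card_zmod]
  let f : L → (V →ₗ[ZMod r] V) := fun g =>
    AddMonoidHom.toZModLinearMap r (DistribSMul.toAddMonoidHom V g)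
  have hf : ∀ (g : L) (v : V), f g v = g • v := fun g v => rfl
  have hind : LinearIndependent (ZMod r) (fun q : T ⧸ B.subgroupOf T => f (q.out : L)) := by
    rw [Fintype.linearIndependent_iff]
    intro c hc j
    have hv : ∀ v : V, (∑ i, c i • ((i.out : L) • v)) = 0 := fun v => by
      have := congrArg (fun F : V →ₗ[ZMod r] V => F v) hc
      simpa [hf, LinearMap.sum_apply] using this
    have hsmul : ∀ (g : L) (a : ZMod r) (v : V), g • (a • v) = a • (g • v) := fun g a v => by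
      rw [← hf g, map_smul, hf]
    have hkey : ∀ (u : T) (v : V),
        ∑ i, c i • (⁅(u : L), (i.out : L) * (j.out : L)⁻¹⁆ • ((i.out : L) • v)) = 0 := by
      intro u v
      have e1 := congrArg ((⁅(u : L), (j.out : L)⁆⁻¹ * (u : L)) • ·) (hv ((u : L)⁻¹ • v))
      simp only [smul_zero, Finset.smul_sum, hsmul] at e1
      refine Eq.trans (Finset.sum_congr rfl fun i _ => ?_) e1
      congr 1
      rw [← mul_smul, ← mul_smul, ← mul_smul]
      congr 1
      have e2 : ⁅(u : L), (i.out : L) * (j.out : L)⁻¹⁆ =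
          ⁅(u : L), (j.out : L)⁆⁻¹ * ⁅(u : L), (i.out : L)⁆ := by
        have h1 := h.comm_mul_right (T.mul_mem i.out.2 (T.inv_mem j.out.2)) j.out.2 u.2
        rw [inv_mul_cancel_right] at h1
        rw [h1]
        obtain ⟨p, hp⟩ := h.comm _ u.2 _ (T.mul_mem i.out.2 (T.inv_mem j.out.2))
        obtain ⟨q, hq⟩ := h.comm _ u.2 _ j.out.2
        rw [← hp, ← hq]
        group
      rw [e2]
      simp only [commutatorElement_def]
      group
    have hsum : ∀ v : V, ∑ i, c i • ∑ u : T,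
        ⁅(u : L), (i.out : L) * (j.out : L)⁻¹⁆ • ((i.out : L) • v) = 0 := fun v => by
      simp only [Finset.smul_sum]
      rw [Finset.sum_comm]
      exact Finset.sum_eq_zero fun u _ => hkey u v
    have hvanish : ∀ i, i ≠ j → ∀ w : V,
        ∑ u : T, ⁅(u : L), (i.out : L) * (j.out : L)⁻¹⁆ • w = 0 := by
      intro i hij w
      have hmem : (i.out : L) * (j.out : L)⁻¹ ∈ T := T.mul_mem i.out.2 (T.inv_mem j.out.2)
      have hnB : (i.out : L) * (j.out : L)⁻¹ ∉ B := fun hB => hij (by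
        haveI := h.Bnormal
        rw [← i.out_eq, ← j.out_eq]
        apply QuotientGroup.eq.mpr
        have : (j.out : L)⁻¹ * ((i.out : L) * (j.out : L)⁻¹) * (j.out : L) ∈ B := by
          simpa using h.Bnormal.conj_mem _ hB (j.out : L)⁻¹
        have h2 := B.inv_mem this
        simpa [Subgroup.mem_subgroupOf, mul_assoc] using h2)
      obtain ⟨u0, hu0, hu0'⟩ := h.exists_comm_eq hmem hnB (Subgroup.mem_zpowers z)
      refine h.zfpf _ ?_
      rw [Finset.smul_sum]
      refine Fintype.sum_equiv (Equiv.mulLeft (⟨u0, hu0⟩ : T)) _ _ fun u => ?_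
      rw [← mul_smul, Equiv.coe_mulLeft, Subgroup.coe_mul, h.comm_mul_left hu0 u.2 hmem, hu0']
    by_contra hcj
    obtain ⟨v, hv0⟩ := exists_ne (0 : V)
    have hs := hsum v
    rw [Finset.sum_eq_single j (fun i _ hij => by rw [hvanish i hij, smul_zero])
      (fun hh => absurd (Finset.mem_univ j) hh)] at hs
    simp only [mul_inv_cancel, commutatorElement_one_right, one_smul, Finset.sum_const,
      Finset.card_univ] at hs
    rw [smul_eq_zero] at hs
    rcases hs with hs | hs
    · exact hcj hs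
    · have hT : (Fintype.card T).Coprime r := by
        rw [← Nat.card_eq_fintype_card]
        exact hcop.coprime_dvd_left (Subgroup.card_subgroup_dvd_card T)
      exact hv0 ((smul_eq_zero_iff_eq _).mp (nsmul_eq_zero_imp hr hT hs))
  have := hind.fintype_card_le_finrank
  rw [Module.finrank_linearMap, ← sq, ← Nat.card_eq_fintype_card] at this
  exact this

/-- The order of `T / B` is at most the square of the dimension. -/
theorem relIndex_le [Fact r.Prime] [Nontrivial V] (h : Two W T B z s V) (hr : ∀ v : V, r • v = 0)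
    (hcop : (Nat.card L).Coprime r) :
    ∃ d : ℕ, r ^ d = Nat.card V ∧ B.relIndex T ≤ d ^ 2 :=
  @relIndex_le_aux L V _ _ _ _ _ W _ r T B z s _ _ _ (AddCommGroup.zmodModule hr) h hr hcop

/-- Orbit of a pair under `T`: conjugates of `a` times the orbit of the vector. -/
theorem orbit_pair (h : Two W T B z s V) {a : L} (ha : a ∈ T) (haB : a ∉ B) {v : V}
    (Φ : L × V → L × V → Prop)
    (hΦ : ∀ p q, Φ p q ↔ ∃ t ∈ T, t * p.1 * t⁻¹ = q.1 ∧ t • p.2 = q.2) :
    s * (orbit (T ⊓ Subgroup.centralizer {a} : Subgroup L) v).ncard ≤ {q | Φ (a, v) q}.ncard := by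
  have hord : orderOf z = s := orderOf_eq_prime h.zpow h.zne
  choose t ht htc using fun j : Fin s =>
    h.exists_comm_eq ha haB (pow_mem (Subgroup.mem_zpowers z) (j : ℕ))
  have hfin : {q | Φ (a, v) q}.Finite := Set.toFinite _
  haveI : Finite (L × V) := inferInstance
  rw [← Nat.card_coe_set_eq, ← Nat.card_coe_set_eq]
  have hmap : ∀ (j : Fin s) (w : orbit (T ⊓ Subgroup.centralizer {a} : Subgroup L) v),
      Φ (a, v) (z ^ (j : ℕ) * a, t j • (w : V)) := by
    rintro j ⟨_, c, rfl⟩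
    rw [hΦ]
    refine ⟨t j * (c : L), mul_mem (ht j) c.2.1, ?_, mul_smul _ _ _⟩
    have hc : (c : L) * a * (c : L)⁻¹ = a := by
      rw [Subgroup.mem_centralizer_singleton_iff.mp c.2.2, mul_inv_cancel_right]
    calc t j * (c : L) * a * (t j * (c : L))⁻¹ = t j * ((c : L) * a * (c : L)⁻¹) * (t j)⁻¹ := by group
      _ = z ^ (j : ℕ) * a := by rw [hc]; exact conj_eq (htc j)
  let F : Fin s × orbit (T ⊓ Subgroup.centralizer {a} : Subgroup L) v → {q | Φ (a, v) q} :=
    fun p => ⟨_, hmap p.1 p.2⟩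
  have hF : Function.Injective F := by
    intro p q e
    have e' := congrArg Subtype.val e
    simp only [F, Prod.mk.injEq] at e'
    have h1 : (p.1 : ℕ) = (q.1 : ℕ) := by
      have := pow_inj_mod.mp (mul_right_cancel e'.1)
      rwa [hord, Nat.mod_eq_of_lt p.1.2, Nat.mod_eq_of_lt q.1.2] at this
    have h1' : p.1 = q.1 := Fin.ext h1
    rw [h1'] at e'
    exact Prod.ext h1' (Subtype.ext (smul_left_cancel _ e'.2))
  have := Nat.card_le_card_of_injective F hF
  rwa [Nat.card_prod, Nat.card_fin] at this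

/-- The fixed spaces of the translates of a non-central element are independent. -/
theorem fix_pow_le (h : Two W T B z s V) (hr : ∀ v : V, r • v = 0) (hcop : (Nat.card L).Coprime r)
    {x : L} (hx : x ∈ T) (hxB : x ∉ B) :
    Nat.card (fixAdd (V := V) x) ^ s ≤ Nat.card V := by
  have hord : orderOf z = s := orderOf_eq_prime h.zpow h.zne
  choose t ht htc using fun j : Fin s =>
    h.exists_comm_eq hx hxB (pow_mem (Subgroup.mem_zpowers z) (j : ℕ))
  have hQ : ∀ j : Fin s, Nat.card (fixAdd (V := V) (z ^ (j : ℕ) * x)) =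
      Nat.card (fixAdd (V := V) x) := fun j => by
    let e : fixAdd (V := V) x ≃ fixAdd (V := V) (z ^ (j : ℕ) * x) :=
      { toFun := fun w => ⟨t j • (w : V), (conj_fix (conj_eq (htc j))).mpr w.2⟩
        invFun := fun w => ⟨(t j)⁻¹ • (w : V), (conj_fix (conj_eq (htc j))).mp (by
          rw [smul_inv_smul]; exact w.2)⟩
        left_inv := fun w => Subtype.ext (inv_smul_smul _ _)
        right_inv := fun w => Subtype.ext (smul_inv_smul _ _) }
    exact (Nat.card_congr e).symm
  have := pow_card_le hr hcop (fun j : Fin s => Subgroup.zpowers (z ^ (j : ℕ) * x))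
    (fun j : Fin s => fixAdd (V := V) (z ^ (j : ℕ) * x)) hQ
    (fun j w hw b hb => (Subgroup.zpowers_le (g := z ^ (j : ℕ) * x)
      (H := stabilizer L w)).mpr hw hb) ?_
  · rwa [Fintype.card_fin] at this
  intro i j hij w hw
  have hcomm : Commute (z ^ (i : ℕ) * x) (z ^ (j : ℕ) * x) := by
    have hz : ∀ n : ℕ, Commute (z ^ n) x := fun n => (h.Bcentral z h.zmem x hx).pow_left n
    exact ((Commute.pow_pow_self z _ _).mul_right (hz _)).mul_left
      ((hz _).symm.mul_right (Commute.refl x))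
  have h1 : (z ^ (j : ℕ) * x) • avg (Subgroup.zpowers (z ^ (i : ℕ) * x)) w =
      avg (Subgroup.zpowers (z ^ (i : ℕ) * x)) w :=
    avg_fixed_by_commuting hw fun d hd => by
      obtain ⟨n, rfl⟩ := hd; exact hcomm.zpow_left n
  have h2 := avg_fixed (Subgroup.zpowers (z ^ (i : ℕ) * x)) w (Subgroup.mem_zpowers _)
  refine h.zpow_fpf (c := z ^ (j : ℕ) * (z ^ (i : ℕ))⁻¹)
    (mul_mem (pow_mem (Subgroup.mem_zpowers z) _) (inv_mem (pow_mem (Subgroup.mem_zpowers z) _))) ?_ ?_
  · intro e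
    have := pow_inj_mod.mp (mul_inv_eq_one.mp e)
    rw [hord, Nat.mod_eq_of_lt i.2, Nat.mod_eq_of_lt j.2] at this
    exact hij (Fin.ext this.symm)
  · conv_lhs => rw [← h2]
    rw [← mul_smul, show z ^ (j : ℕ) * (z ^ (i : ℕ))⁻¹ * (z ^ (i : ℕ) * x) = z ^ (j : ℕ) * x by group]
    exact h1

/-- Elements of order `s` in one coset of `B`. -/
theorem card_involutions_le (h : Two W T B z s V) :
    {x : L | x ∈ T ∧ x ∉ B ∧ x ^ s = 1}.ncard ≤ s * B.relIndex T := by
  have hord : orderOf z = s := orderOf_eq_prime h.zpow h.zne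
  letI : Fintype (T ⧸ B.subgroupOf T) := Fintype.ofFinite _
  letI := Fintype.ofFinite L
  rw [Subgroup.relIndex, Subgroup.index, Nat.card_eq_fintype_card,
    Set.ncard_eq_toFinset_card']
  refine Finset.card_le_mul_card_image_of_maps_to
    (f := fun x : L => if hx : x ∈ T then ((⟨x, hx⟩ : T) : T ⧸ B.subgroupOf T) else ((1 : T) : _))
    (t := Finset.univ) (fun _ _ => Finset.mem_univ _) s fun q _ => ?_
  by_cases hne : ((Set.toFinset {x : L | x ∈ T ∧ x ∉ B ∧ x ^ s = 1}).filter fun x : L =>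
      (if hx : x ∈ T then ((⟨x, hx⟩ : T) : T ⧸ B.subgroupOf T) else ((1 : T) : _)) = q).Nonempty
  · obtain ⟨x₀, hx₀⟩ := hne
    rw [Finset.mem_filter, Set.mem_toFinset] at hx₀
    obtain ⟨⟨hx₀T, -, hx₀s⟩, hx₀q⟩ := hx₀
    refine le_trans (Finset.card_le_card (t := (Finset.range s).image fun j => x₀ * z ^ j) ?_)
      (Finset.card_image_le.trans (Finset.card_range s).le)
    intro x hx
    rw [Finset.mem_filter, Set.mem_toFinset] at hx
    obtain ⟨⟨hxT, -, hxs⟩, hxq⟩ := hx
    rw [← hx₀q, dif_pos hxT, dif_pos hx₀T, QuotientGroup.eq] at hxq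
    have hb : x₀⁻¹ * x ∈ B := by
      have := B.inv_mem (show x⁻¹ * x₀ ∈ B from hxq)
      simpa using this
    have hbs : (x₀⁻¹ * x) ^ s = 1 := by
      have hc : Commute x₀ (x₀⁻¹ * x) := (h.Bcentral _ hb _ hx₀T).symm
      have e : x ^ s = x₀ ^ s * (x₀⁻¹ * x) ^ s := by rw [← hc.mul_pow, mul_inv_cancel_left]
      rw [hxs, hx₀s, one_mul] at e
      exact e.symm
    have hmem := h.omega _ hb hbs
    have hfin : IsOfFinOrder z := isOfFinOrder_of_finite _
    rw [← hfin.mem_powers_iff_mem_zpowers, Submonoid.mem_powers_iff] at hmem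
    obtain ⟨j, hj⟩ := hmem
    refine Finset.mem_image.mpr ⟨j % s, Finset.mem_range.mpr (Nat.mod_lt _ (Fact.out : s.Prime).pos), ?_⟩
    rw [← pow_eq_pow_mod j h.zpow, hj, mul_inv_cancel_left]
  · rw [Finset.not_nonempty_iff_eq_empty.mp hne]; simp

end Two

end Cfsg.Agent.DerangeIdx
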