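import Cfsg.Agent.DerangeIdx.ClassTwo

/-!
# The class two case is impossible in large dimension or over large fields
-/

set_option autoImplicit false
set_option linter.unusedSectionVars false
set_option linter.style.haveILetI false

namespace Cfsg.Agent.DerangeIdx

open MulAction Finset
open scoped Classical commutatorElement

theorem pow_twentyfour_le {d : ℕ} (hd : 256 ≤ d) : 2 ^ 18 * d ^ 24 ≤ 2 ^ d := by
  induction d, hd using Nat.le_induction with
  | base => norm_num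
  | succ d hd ih =>
    have h1 : (d + 1) ^ 24 * 256 ^ 24 ≤ d ^ 24 * 257 ^ 24 := by
      rw [← mul_pow, ← mul_pow]
      exact Nat.pow_le_pow_left (by omega) 24
    have h2 : (257 : ℕ) ^ 24 ≤ 2 * 256 ^ 24 := by norm_num
    have h3 : (d + 1) ^ 24 ≤ 2 * d ^ 24 := by
      refine Nat.le_of_mul_le_mul_right (le_trans h1 ?_) (Nat.pow_pos (by norm_num : 0 < 256) (n := 24))
      calc d ^ 24 * 257 ^ 24 ≤ d ^ 24 * (2 * 256 ^ 24) := Nat.mul_le_mul le_rfl h2
        _ = 2 * d ^ 24 * 256 ^ 24 := by ring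
    calc 2 ^ 18 * (d + 1) ^ 24 ≤ 2 ^ 18 * (2 * d ^ 24) := Nat.mul_le_mul le_rfl h3
      _ = 2 * (2 ^ 18 * d ^ 24) := by ring
      _ ≤ 2 * 2 ^ d := Nat.mul_le_mul le_rfl ih
      _ = 2 ^ (d + 1) := by ring

/-- Small indices from small fixed spaces. -/
theorem sq_le_of_small {r d n k Q M : ℕ} (hr : 2 ≤ r) (hn : r ^ d = n) (hbig : 2 ^ 256 ≤ n)
    (hd : 1 ≤ d) (hQ1 : 1 ≤ Q) (hQ : Q ^ 3 ≤ n) (hM : M ≤ d ^ 2) (hk : k ≤ 4 * M ^ 2 * Q) :
    (k + 1) ^ 2 ≤ n := by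
  have hA : (8 * d ^ 4) ^ 6 ≤ n := by
    rcases le_total d 256 with h | h
    · calc (8 * d ^ 4) ^ 6 ≤ (8 * 256 ^ 4) ^ 6 := by gcongr
        _ ≤ 2 ^ 256 := by norm_num
        _ ≤ n := hbig
    · calc (8 * d ^ 4) ^ 6 = 2 ^ 18 * d ^ 24 := by ring
        _ ≤ 2 ^ d := pow_twentyfour_le h
        _ ≤ r ^ d := Nat.pow_le_pow_left hr d
        _ = n := hn
  have h1 : k + 1 ≤ 8 * d ^ 4 * Q := by
    have h4 : 1 ≤ d ^ 4 * Q := Nat.one_le_iff_ne_zero.mpr (by positivity)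
    have h5 : 4 * M ^ 2 * Q ≤ 4 * d ^ 4 * Q := by
      refine Nat.mul_le_mul (Nat.mul_le_mul le_rfl ?_) le_rfl
      calc M ^ 2 ≤ (d ^ 2) ^ 2 := Nat.pow_le_pow_left hM 2
        _ = d ^ 4 := by ring
    nlinarith
  have h2 : ((8 * d ^ 4 * Q) ^ 2) ^ 3 ≤ n ^ 3 := by
    calc ((8 * d ^ 4 * Q) ^ 2) ^ 3 = (8 * d ^ 4) ^ 6 * (Q ^ 3) ^ 2 := by ring
      _ ≤ n * n ^ 2 := Nat.mul_le_mul hA (Nat.pow_le_pow_left hQ 2)
      _ = n ^ 3 := by ring
  exact le_trans (Nat.pow_le_pow_left h1 2) ((Nat.pow_le_pow_iff_left (by norm_num)).mp h2)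

variable {L V : Type*} [Group L] [Finite L] [AddCommGroup V] [Finite V] [DistribMulAction L V]
variable {W : Subgroup L} [W.Normal] {r : ℕ}

/-- The incidence bound for tuples of elements and common fixed vectors. -/
theorem incidence_bound {ι : Type*} [Finite ι] (hf : Fpf W V) {T : Subgroup L} (hTW : T ≤ W)
    (P : Set ι) (act : L → ι → ι) (h1 : ∀ i, act 1 i = i)
    (hm : ∀ g h i, act (g * h) i = act g (act h i)) (hinv : ∀ g, ∀ i ∈ P, act g i ∈ P)
    (F : ι → AddSubgroup V) (hF : ∀ g, ∀ i, ∀ v ∈ F i, g • v ∈ F (act g i))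
    {Q : ℕ} (hQ : ∀ i ∈ P, Nat.card (F i) ≤ Q) {i₀ : ι} (hi₀ : i₀ ∈ P) {v : V} (hv : v ∈ F i₀)
    (hv0 : v ≠ 0) :
    W.index * {q : ι × V | ∃ t ∈ T, act t i₀ = q.1 ∧ t • v = q.2}.ncard ≤ P.ncard * (Q - 1) := by
  letI : MulAction L ι := { smul := act, one_smul := h1, mul_smul := hm }
  let X : Set (ι × V) := {q | q.1 ∈ P ∧ q.2 ∈ F q.1 ∧ q.2 ≠ 0}
  have horb : orbit T ((i₀, v) : ι × V) = {q : ι × V | ∃ t ∈ T, act t i₀ = q.1 ∧ t • v = q.2} := by
    ext q
    constructor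
    · rintro ⟨t, rfl⟩; exact ⟨t, t.2, rfl, rfl⟩
    · rintro ⟨t, ht, e1, e2⟩; exact ⟨⟨t, ht⟩, Prod.ext e1 e2⟩
  have hst : stabilizer L ((i₀, v) : ι × V) ≤ W := fun g hg =>
    stabilizer_le_of_fpf hf hv0 (congrArg Prod.snd hg)
  have h := index_mul_orbit_le (W := W) T hTW ((i₀, v) : ι × V) hst X (fun g => ⟨hinv g i₀ hi₀,
    hF g i₀ v hv, fun e => hv0 ((smul_eq_zero_iff_eq g).mp e)⟩) (Set.toFinite _)
  rw [horb] at h
  refine h.trans ?_
  letI := Fintype.ofFinite ι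
  letI := Fintype.ofFinite V
  rw [Set.ncard_eq_toFinset_card', Set.ncard_eq_toFinset_card', mul_comm]
  refine Finset.card_le_mul_card_image_of_maps_to (f := Prod.fst) (t := P.toFinset)
    (fun q hq => ?_) (Q - 1) fun i hi => ?_
  · rw [Set.mem_toFinset] at hq ⊢; exact hq.1
  · rw [Set.mem_toFinset] at hi
    have h2 : (((F i : Set V) \ {0}).toFinset).card + 1 ≤ Q := by
      rw [← Set.ncard_eq_toFinset_card', ncard_diff_zero]; exact hQ i hi
    refine le_trans (Finset.card_le_card_of_injOn (t := ((F i : Set V) \ {0}).toFinset) Prod.snd (fun q hq => ?_) ?_) (by omega)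
    · rw [Finset.mem_coe, Finset.mem_filter, Set.mem_toFinset] at hq
      rw [Finset.mem_coe, Set.mem_toFinset]
      obtain ⟨⟨-, h3, h4⟩, rfl⟩ := hq
      exact ⟨h3, h4⟩
    · intro p hp q hq e
      rw [Finset.mem_coe, Finset.mem_filter] at hp hq
      exact Prod.ext (hp.2.trans hq.2.symm) e

namespace Two

variable {T B : Subgroup L} {z : L} {s : ℕ} [Fact s.Prime]

theorem conj_invariant (h : Two W T B z s V) (g : L) {x : L}
    (hx : x ∈ T ∧ x ∉ B ∧ x ^ s = 1) :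
    g * x * g⁻¹ ∈ T ∧ g * x * g⁻¹ ∉ B ∧ (g * x * g⁻¹) ^ s = 1 := by
  refine ⟨h.Tnormal.conj_mem _ hx.1 g, fun hB => hx.2.1 ?_, by rw [conj_pow, hx.2.2, mul_one, mul_inv_cancel]⟩
  have := h.Bnormal.conj_mem _ hB g⁻¹
  simpa [mul_assoc] using this

/-- A non-central element of order `s` has a non-zero fixed vector. -/
theorem exists_fixed [Nontrivial V] (h : Two W T B z s V) (H : Hyp W V r) {a : L} (ha : a ∈ T)
    (haB : a ∉ B) (has : a ^ s = 1) : ∃ v : V, v ≠ 0 ∧ a • v = v := by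
  obtain ⟨v, hv⟩ := exists_ne (0 : V)
  have hs : s.Coprime r := H.cop.coprime_dvd_left
    (orderOf_eq_prime h.zpow h.zne ▸ orderOf_dvd_natCard z)
  rcases exists_fixed_of_noncyclic H.char hs (h.Bcentral z h.zmem a ha).symm has h.zpow hv with
    ⟨j, -, w, hw0, hw⟩ | ⟨w, hw0, hw⟩
  · obtain ⟨t, ht, htc⟩ := h.exists_comm_eq ha haB (pow_mem (Subgroup.mem_zpowers z) j)
    refine ⟨t⁻¹ • w, fun e => hw0 ((smul_eq_zero_iff_eq _).mp e), ?_⟩
    rw [← (conj_fix (conj_eq htc) (v := t⁻¹ • w)), smul_inv_smul]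
    rwa [(h.Bcentral z h.zmem a ha).pow_left j]
  · exact absurd (h.zfpf w hw) hw0

theorem mem_zpowers_z_of_not {x : L} (hxz : x ∈ Subgroup.zpowers z) (h : Two W T B z s V) : x ∈ B :=
  (Subgroup.zpowers_le (g := z) (H := B)).mpr h.zmem hxz

/-- The pair case: two independent commuting involutions. -/
theorem pair_fix_le [Nontrivial V] (h : Two W T B z 2 V) (H : Hyp W V r) {x y : L}
    (hx : x ∈ T) (hy : y ∈ T) (hxB : x ∉ B) (hyB : y ∉ B) (hxy : x * y ∉ B) (hc : Commute x y) :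
    Nat.card (fixSubgroup (V := V) (Subgroup.closure {x, y})) ^ 4 ≤ Nat.card V := by
  have hz2 : z ^ 2 = 1 := h.zpow
  -- independence of the two pairings
  have hgen : ∀ (i j : Fin 2), ∃ t ∈ T, ⁅t, x⁆ = z ^ (i : ℕ) ∧ ⁅t, y⁆ = z ^ (j : ℕ) := by
    have hval : ∀ t ∈ T, ∀ w ∈ T, ⁅t, w⁆ = 1 ∨ ⁅t, w⁆ = z := fun t ht w hw => by
      have hmem := h.comm t ht w hw
      have hfin : IsOfFinOrder z := isOfFinOrder_of_finite _
      rw [← hfin.mem_powers_iff_mem_zpowers, Submonoid.mem_powers_iff] at hmem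
      obtain ⟨n, hn⟩ := hmem
      rw [← hn, pow_eq_pow_mod n hz2]
      rcases Nat.mod_two_eq_zero_or_one n with e | e <;> simp [e]
    obtain ⟨t1, h1, e1⟩ := h.exists_comm_eq hx hxB (Subgroup.mem_zpowers z)
    obtain ⟨t2, h2, e2⟩ := h.exists_comm_eq hy hyB (Subgroup.mem_zpowers z)
    obtain ⟨t3, h3, e3⟩ := h.exists_comm_eq (mul_mem hx hy) hxy (Subgroup.mem_zpowers z)
    rw [h.comm_mul_right hx hy h3] at e3
    have hzz : z * z = 1 := by rw [← sq]; exact hz2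
    -- some elements with values (z,1) and (1,z)
    have key : (∃ t ∈ T, ⁅t, x⁆ = z ∧ ⁅t, y⁆ = 1) ∧ (∃ t ∈ T, ⁅t, x⁆ = 1 ∧ ⁅t, y⁆ = z) := by
      rcases hval t3 h3 x hx with a3 | a3
      · rw [a3, one_mul] at e3
        refine ⟨?_, ⟨t3, h3, a3, e3⟩⟩
        rcases hval t1 h1 y hy with b1 | b1
        · exact ⟨t1, h1, e1, b1⟩
        · exact ⟨t1 * t3, mul_mem h1 h3, by rw [h.comm_mul_left h1 h3 hx, e1, a3, mul_one],
            by rw [h.comm_mul_left h1 h3 hy, b1, e3, hzz]⟩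
      · have b3 : ⁅t3, y⁆ = 1 := by rw [a3] at e3; exact mul_eq_left.mp e3
        refine ⟨⟨t3, h3, a3, b3⟩, ?_⟩
        rcases hval t2 h2 x hx with a2 | a2
        · exact ⟨t2, h2, a2, e2⟩
        · exact ⟨t2 * t3, mul_mem h2 h3, by rw [h.comm_mul_left h2 h3 hx, a2, a3, hzz],
            by rw [h.comm_mul_left h2 h3 hy, e2, b3, mul_one]⟩
    obtain ⟨⟨u, hu, ux, uy⟩, w, hw, wx, wy⟩ := key
    intro i j
    fin_cases i <;> fin_cases j <;> simp only [pow_zero, pow_one]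
    · exact ⟨1, one_mem _, by simp, by simp⟩
    · exact ⟨w, hw, wx, wy⟩
    · exact ⟨u, hu, ux, uy⟩
    · exact ⟨u * w, mul_mem hu hw, by rw [h.comm_mul_left hu hw hx, ux, wx, mul_one],
        by rw [h.comm_mul_left hu hw hy, uy, wy, one_mul]⟩
  choose t ht htx hty using hgen
  let A : Fin 2 × Fin 2 → Subgroup L := fun p =>
    Subgroup.closure {z ^ (p.1 : ℕ) * x, z ^ (p.2 : ℕ) * y}
  have hmem : ∀ (g1 g2 : L) (w : V),
      w ∈ fixSubgroup (V := V) (Subgroup.closure {g1, g2}) ↔ g1 • w = w ∧ g2 • w = w := fun g1 g2 w => by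
    rw [mem_fixSubgroup]
    refine ⟨fun hh => ⟨hh g1 (Subgroup.subset_closure (by simp)),
      hh g2 (Subgroup.subset_closure (by simp))⟩, fun hh b hb => ?_⟩
    exact ((Subgroup.closure_le (stabilizer L w)).mpr (by
      rintro c (rfl | rfl)
      · exact hh.1
      · exact hh.2)) hb
  have hQ : ∀ p, Nat.card (fixSubgroup (V := V) (A p)) =
      Nat.card (fixSubgroup (V := V) (Subgroup.closure {x, y})) := fun p => by
    let tt := t p.1 p.2
    let e : fixSubgroup (V := V) (Subgroup.closure {x, y}) ≃ fixSubgroup (V := V) (A p) :=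
      { toFun := fun w => ⟨tt • (w : V), (hmem _ _ _).mpr
          ⟨(conj_fix (conj_eq (htx p.1 p.2))).mpr ((hmem _ _ _).mp w.2).1,
            (conj_fix (conj_eq (hty p.1 p.2))).mpr ((hmem _ _ _).mp w.2).2⟩⟩
        invFun := fun w => ⟨tt⁻¹ • (w : V), (hmem _ _ _).mpr
          ⟨(conj_fix (conj_eq (htx p.1 p.2))).mp (by rw [smul_inv_smul]; exact ((hmem _ _ _).mp w.2).1),
            (conj_fix (conj_eq (hty p.1 p.2))).mp (by rw [smul_inv_smul]; exact ((hmem _ _ _).mp w.2).2)⟩⟩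
        left_inv := fun w => Subtype.ext (inv_smul_smul _ _)
        right_inv := fun w => Subtype.ext (smul_inv_smul _ _) }
    exact (Nat.card_congr e).symm
  have := pow_card_le H.char H.cop A (fun p => fixSubgroup (A p)) hQ
    (fun p w hw b hb => mem_fixSubgroup.mp hw b hb) ?_
  · simpa using this
  intro p q hpq w hw
  obtain ⟨w1, w2⟩ := (hmem _ _ _).mp hw
  have hcomm : ∀ (g1 g2 : L), (g1 = x ∨ g1 = y) → (g2 = x ∨ g2 = y) → ∀ i j : ℕ,
      Commute (z ^ i * g1) (z ^ j * g2) := by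
    intro g1 g2 hg1 hg2 i j
    have hzc : ∀ n : ℕ, ∀ g, g = x ∨ g = y → Commute (z ^ n) g := fun n g hg =>
      (h.Bcentral z h.zmem g (by rcases hg with rfl | rfl <;> assumption)).pow_left n
    have hgg : Commute g1 g2 := by
      rcases hg1 with rfl | rfl <;> rcases hg2 with rfl | rfl
      · exact Commute.refl _
      · exact hc
      · exact hc.symm
      · exact Commute.refl _
    exact ((Commute.pow_pow_self z i j).mul_right (hzc i g2 hg2)).mul_left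
      ((hzc j g1 hg1).symm.mul_right hgg)
  have havg : ∀ (j : ℕ) (g2 : L), (g2 = x ∨ g2 = y) → (z ^ j * g2) • w = w →
      (z ^ j * g2) • avg (A p) w = avg (A p) w := fun j g2 hg2 hfix => by
    refine avg_fixed_by_commuting hfix fun d hd => ?_
    have hle : A p ≤ Subgroup.centralizer {z ^ j * g2} := by
      rw [Subgroup.closure_le]
      rintro c (rfl | rfl) <;> rw [SetLike.mem_coe, Subgroup.mem_centralizer_singleton_iff]
      · exact (hcomm x g2 (Or.inl rfl) hg2 _ _).eq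
      · exact (hcomm y g2 (Or.inr rfl) hg2 _ _).eq
    exact Subgroup.mem_centralizer_singleton_iff.mp (hle hd)
  have hown := fun (c : L) (hcA : c ∈ A p) => avg_fixed (A p) w hcA
  have hne : p.1 ≠ q.1 ∨ p.2 ≠ q.2 := by
    by_contra hh
    push Not at hh
    exact hpq (Prod.ext hh.1 hh.2)
  have hfin : ∀ (i j : Fin 2) (g : L), i ≠ j → (z ^ (i : ℕ) * g) • avg (A p) w = avg (A p) w →
      (z ^ (j : ℕ) * g) • avg (A p) w = avg (A p) w → avg (A p) w = 0 := by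
    intro i j g hij hi hj
    refine h.zfpf _ ?_
    conv_lhs => rw [← hi]
    fin_cases i <;> fin_cases j <;> simp at hij hi hj ⊢
    · rw [hi]; rwa [mul_smul, hi] at hj
    · rw [← mul_smul, ← mul_assoc, ← sq, hz2, one_mul, hj]
  rcases hne with hne | hne
  · exact hfin p.1 q.1 x hne (hown _ (Subgroup.subset_closure (by simp))) (havg _ x (Or.inl rfl) w1)
  · exact hfin p.2 q.2 y hne (hown _ (Subgroup.subset_closure (by simp))) (havg _ y (Or.inr rfl) w2)

end Two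

end Cfsg.Agent.DerangeIdx
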