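import Cfsg.Agent.DerangeIdx.ClassTwoBound

/-!
# The class two case ends in a contradiction
-/

set_option autoImplicit false
set_option linter.unusedSectionVars false
set_option linter.style.haveILetI false

namespace Cfsg.Agent.DerangeIdx

open MulAction Finset
open scoped Classical commutatorElement

variable {L V : Type*} [Group L] [Finite L] [AddCommGroup V] [Finite V] [DistribMulAction L V]
variable {W : Subgroup L} [W.Normal] {r : ℕ}

namespace Two

variable {T B : Subgroup L} {z : L} {s : ℕ} [Fact s.Prime]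

theorem b_fpf (h : Two W T B z s V) {b : L} (hb : b ∈ B) {v : V} (hv0 : v ≠ 0) (hv : b • v = v) :
    b = 1 := by
  by_contra hb1
  obtain ⟨k, hk⟩ := h.pgrp ⟨b, h.Ble hb⟩
  have hbk : b ^ s ^ k = 1 := congrArg Subtype.val hk
  obtain ⟨j, -, hj⟩ := (Nat.dvd_prime_pow Fact.out).mp (orderOf_dvd_of_pow_eq_one hbk)
  rcases j with _ | j
  · rw [pow_zero, orderOf_eq_one_iff] at hj; exact hb1 hj
  · have h1 : (b ^ s ^ j) ^ s = 1 := by rw [← pow_mul, ← pow_succ, ← hj, pow_orderOf_eq_one]
    have h2 : b ^ s ^ j ≠ 1 := fun e => by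
      have := Nat.le_of_dvd (pow_pos (Fact.out : s.Prime).pos _) (orderOf_dvd_of_pow_eq_one e)
      rw [hj, pow_succ] at this
      have := lt_mul_of_one_lt_right (pow_pos (Fact.out : s.Prime).pos j) (Fact.out : s.Prime).one_lt
      omega
    exact hv0 (h.zpow_fpf (h.omega _ (pow_mem hb _) h1) h2
      (pow_mem (show b ∈ stabilizer L v from hv) (s ^ j)))

theorem val_two (h : Two W T B z 2 V) {t w : L} (ht : t ∈ T) (hw : w ∈ T) :
    ⁅t, w⁆ = 1 ∨ ⁅t, w⁆ = z := by
  have hmem := h.comm t ht w hw
  have hfin : IsOfFinOrder z := isOfFinOrder_of_finite _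
  rw [← hfin.mem_powers_iff_mem_zpowers, Submonoid.mem_powers_iff] at hmem
  obtain ⟨n, hn⟩ := hmem
  rw [← hn, pow_eq_pow_mod n h.zpow]
  rcases Nat.mod_two_eq_zero_or_one n with e | e <;> simp [e]

theorem mul_sq (h : Two W T B z s V) {x y : L} (hx : x ∈ T) (hy : y ∈ T) :
    x * y * (x * y) = ⁅y, x⁆ * (x * x) * (y * y) := by
  have e : x * y * (x * y) = x * ⁅y, x⁆ * x * (y * y) := by simp only [commutatorElement_def]; group
  rw [e, (h.comm_central hy hx hx).symm.eq]
  group

theorem square_class (h : Two W T B z 2 V) (hB : 4 ≤ Nat.card B) :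
    (∃ e ∈ B, z = e * e) ∧ ∀ p ∈ B, ∀ q ∈ B, (¬ ∃ e ∈ B, p = e * e) → (¬ ∃ e ∈ B, q = e * e) →
      ∃ e ∈ B, p * q = e * e := by
  haveI := h.Bcyc
  obtain ⟨g, hg⟩ := IsCyclic.exists_generator (α := B)
  have hord : orderOf (g : L) = Nat.card B := by
    rw [Subgroup.orderOf_coe, orderOf_eq_card_of_forall_mem_zpowers hg]
  obtain ⟨k, hk⟩ := h.pgrp.to_le h.Ble g
  have hgk : (g : L) ^ 2 ^ k = 1 := congrArg Subtype.val hk
  obtain ⟨j, -, hj⟩ := (Nat.dvd_prime_pow Nat.prime_two).mp (orderOf_dvd_of_pow_eq_one hgk)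
  have hj2 : 2 ≤ j := by
    by_contra hlt
    have h2 : 2 ^ j ≤ 2 ^ 1 := Nat.pow_le_pow_right (by norm_num) (by omega)
    rw [hord] at hj
    omega
  obtain ⟨i, rfl⟩ : ∃ i, j = i + 2 := ⟨j - 2, by omega⟩
  constructor
  · refine ⟨(g : L) ^ 2 ^ i, pow_mem g.2 _, ?_⟩
    have e1 : ((g : L) ^ 2 ^ i * (g : L) ^ 2 ^ i) ^ 2 = 1 := by
      rw [← pow_add, ← pow_mul, show (2 ^ i + 2 ^ i) * 2 = 2 ^ (i + 2) by ring, ← hj, pow_orderOf_eq_one]
    have e2 : (g : L) ^ 2 ^ i * (g : L) ^ 2 ^ i ≠ 1 := fun e => by
      rw [← pow_add] at e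
      have := Nat.le_of_dvd (by positivity) (orderOf_dvd_of_pow_eq_one e)
      rw [hj, pow_add] at this
      have hpos : 0 < 2 ^ i := by positivity
      omega
    have hmem := h.omega _ (mul_mem (pow_mem g.2 _) (pow_mem g.2 _)) e1
    have hfin : IsOfFinOrder z := isOfFinOrder_of_finite _
    rw [← hfin.mem_powers_iff_mem_zpowers, Submonoid.mem_powers_iff] at hmem
    obtain ⟨n, hn⟩ := hmem
    rcases Nat.mod_two_eq_zero_or_one n with e | e
    · rw [pow_eq_pow_mod n h.zpow, e, pow_zero] at hn; exact absurd hn.symm e2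
    · rw [pow_eq_pow_mod n h.zpow, e, pow_one] at hn; exact hn
  · intro p hp q hq hp2 hq2
    obtain ⟨a, ha⟩ := hg ⟨p, hp⟩
    obtain ⟨b, hb⟩ := hg ⟨q, hq⟩
    have ha' : (g : L) ^ a = p := congrArg Subtype.val ha
    have hb' : (g : L) ^ b = q := congrArg Subtype.val hb
    rcases Int.even_or_odd a with ⟨u, hu⟩ | ⟨u, hu⟩
    · exact absurd ⟨(g : L) ^ u, B.zpow_mem g.2 u, by rw [← zpow_add, ← hu, ha']⟩ hp2
    rcases Int.even_or_odd b with ⟨w, hw⟩ | ⟨w, hw⟩
    · exact absurd ⟨(g : L) ^ w, B.zpow_mem g.2 w, by rw [← zpow_add, ← hw, hb']⟩ hq2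
    refine ⟨(g : L) ^ (u + w + 1), B.zpow_mem g.2 _, ?_⟩
    rw [← zpow_add, ← ha', ← hb', ← zpow_add, hu, hw]
    congr 1
    ring

/-- No four cosets can form the centralizer of `a`. -/
theorem not_four_cosets (h : Two W T B z 2 V) {a c t : L} (ha : a ∈ T) (ht : t ∈ T)
    (hta : ⁅t, a⁆ = z) (hc : c ∈ T) (hca : Commute c a) (hcB : c ∉ B) (hacB : a * c ∉ B)
    (hcov : ∀ u ∈ T, Commute u a → u ∈ B ∨ a * u ∈ B ∨ c * u ∈ B ∨ a * c * u ∈ B) : False := by
  have hzz : z * z = 1 := by rw [← sq]; exact h.zpow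
  obtain ⟨w, hw, hwa, hwc, hwt, hwB⟩ :
      ∃ w, w ∈ T ∧ Commute w a ∧ Commute w c ∧ Commute t w ∧ w ∉ B := by
    rcases h.val_two ht hc with e | e
    · exact ⟨c, hc, hca, Commute.refl c, commutatorElement_eq_one_iff_commute.mp e, hcB⟩
    · refine ⟨a * c, mul_mem ha hc, (Commute.refl a).mul_left hca, hca.symm.mul_left (Commute.refl c),
        commutatorElement_eq_one_iff_commute.mp ?_, hacB⟩
      rw [h.comm_mul_right ha hc ht, hta, e, hzz]
  have hC : ∀ u ∈ T, Commute u a → Commute w u := by
    intro u hu hua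
    rcases hcov u hu hua with e | e | e | e
    · exact (h.Bcentral _ e _ hw).symm
    · have := hwa.inv_right.mul_right (h.Bcentral _ e _ hw).symm
      rwa [inv_mul_cancel_left] at this
    · have := hwc.inv_right.mul_right (h.Bcentral _ e _ hw).symm
      rwa [inv_mul_cancel_left] at this
    · have := (hwa.mul_right hwc).inv_right.mul_right (h.Bcentral _ e _ hw).symm
      rwa [inv_mul_cancel_left] at this
  refine hwB (h.center w hw fun y hy => ?_)
  rcases h.val_two hy ha with e | e
  · exact hC y hy (commutatorElement_eq_one_iff_commute.mp e)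
  · have h2 : ⁅t * y, a⁆ = 1 := by rw [h.comm_mul_left ht hy ha, hta, e, hzz]
    have := hwt.symm.inv_right.mul_right (hC _ (mul_mem ht hy) (commutatorElement_eq_one_iff_commute.mp h2))
    rwa [inv_mul_cancel_left] at this

theorem card_ker_two (h : Two W T B z 2 V) {a : L} (ha : a ∈ T) (haB : a ∉ B) :
    Nat.card (T ⊓ Subgroup.centralizer {a} : Subgroup L) * 2 = Nat.card T := by
  let φ := h.pairing a ha
  have hker : Nat.card φ.ker = Nat.card (T ⊓ Subgroup.centralizer {a} : Subgroup L) := Nat.card_congr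
    { toFun := fun u => ⟨u.1.1, u.1.2, Subgroup.mem_centralizer_singleton_iff.mpr
        (commutatorElement_eq_one_iff_commute.mp (MonoidHom.mem_ker.mp u.2)).eq⟩
      invFun := fun u => ⟨⟨u.1, u.2.1⟩, MonoidHom.mem_ker.mpr
        (commutatorElement_eq_one_iff_commute.mpr (Subgroup.mem_centralizer_singleton_iff.mp u.2.2))⟩
      left_inv := fun _ => rfl
      right_inv := fun _ => rfl }
  have hrange : φ.range = Subgroup.zpowers z := by
    refine le_antisymm ?_ fun x hx => ?_
    · rintro _ ⟨u, rfl⟩; exact h.comm _ u.2 _ ha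
    · obtain ⟨t, ht, htc⟩ := h.exists_comm_eq ha haB hx
      exact ⟨⟨t, ht⟩, htc⟩
  rw [← hker, ← φ.ker.card_mul_index, Subgroup.index_ker, hrange, Nat.card_zpowers,
    orderOf_eq_prime h.zpow h.zne]

theorem ncard_le_of_small [Nontrivial V] (h : Two W T B z 2 V) {a : L} (ha : a ∈ T) (haB : a ∉ B)
    (has : a ^ 2 = 1)
    (hno : ∀ x ∈ T, ∀ y ∈ T, x ∉ B → y ∉ B → x ^ 2 = 1 → y ^ 2 = 1 → Commute x y → x * y ∈ B) :
    {x : L | x ∈ T ∧ x ∉ B ∧ x ^ 2 = 1}.ncard ≤
      Nat.card (T ⊓ Subgroup.centralizer {a} : Subgroup L) := by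
  set C : Subgroup L := T ⊓ Subgroup.centralizer {a} with hCdef
  have hmemC : ∀ u, u ∈ C ↔ u ∈ T ∧ Commute u a := fun u => by
    rw [hCdef, Subgroup.mem_inf, Subgroup.mem_centralizer_singleton_iff]; rfl
  have haa : a * a = 1 := by rw [← sq]; exact has
  have hzz : z * z = 1 := by rw [← sq]; exact h.zpow
  obtain ⟨t, ht, hta⟩ := h.exists_comm_eq ha haB (Subgroup.mem_zpowers z)
  have hC2 : Nat.card C * 2 = Nat.card T := h.card_ker_two ha haB
  have hTM : B.relIndex T * Nat.card B = Nat.card T := h.card_eq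
  obtain ⟨e, he⟩ := IsPGroup.iff_card.mp h.pgrp
  obtain ⟨eB, heB⟩ := IsPGroup.iff_card.mp (h.pgrp.to_le h.Ble)
  -- involutions of `C` lie in two cosets
  have hCinv : ∀ u ∈ C, u ^ 2 = 1 → u ∈ B ∨ a * u ∈ B := fun u hu hu2 => by
    by_cases huB : u ∈ B
    · exact Or.inl huB
    · exact Or.inr (hno a ha u ((hmemC u).mp hu).1 haB huB has hu2 ((hmemC u).mp hu).2.symm)
  let Sa : Set L := {u | u ∈ B ∨ a * u ∈ B}
  have hSacard : Sa.ncard ≤ 2 * Nat.card B := by
    have hsub : Sa ⊆ (B : Set L) ∪ (fun b => a⁻¹ * b) '' (B : Set L) := by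
      rintro u (hu | hu)
      · exact Or.inl hu
      · exact Or.inr ⟨_, hu, inv_mul_cancel_left a u⟩
    refine (Set.ncard_le_ncard hsub (Set.toFinite _)).trans ((Set.ncard_union_le _ _).trans ?_)
    have := Set.ncard_image_le (f := fun b => a⁻¹ * b) (Set.toFinite (B : Set L))
    rw [← Nat.card_coe_set_eq (B : Set L)] at this
    rw [← Nat.card_coe_set_eq (B : Set L)]
    change _ ≤ 2 * Nat.card (B : Set L)
    omega
  have hcardC : (C : Set L).ncard = Nat.card C := (Nat.card_coe_set_eq _).symm
  -- a coset covering helper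
  have hcov4 : ∀ c ∈ C, ∀ u, (c * u ∈ B ∨ a * (c * u) ∈ B) → c * c ∈ B → u ∈ T →
      u ∈ B ∨ a * u ∈ B ∨ c * u ∈ B ∨ a * c * u ∈ B := fun c _ u hcu _ _ => by
    rcases hcu with hcu | hcu
    · exact Or.inr (Or.inr (Or.inl hcu))
    · exact Or.inr (Or.inr (Or.inr (by rwa [mul_assoc])))
  have hout : ∀ c ∈ C, ¬ (c ∈ B ∨ a * c ∈ B) →
      c ∈ T ∧ Commute c a ∧ c ∉ B ∧ a * c ∉ B := fun c hc hn => by
    push Not at hn
    exact ⟨((hmemC c).mp hc).1, ((hmemC c).mp hc).2, hn.1, hn.2⟩
  have hB2 : 2 ≤ Nat.card B := by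
    haveI : Nontrivial B := ⟨⟨⟨z, h.zmem⟩, 1, fun ee => h.zne (congrArg Subtype.val ee)⟩⟩
    exact Finite.one_lt_card
  by_cases hB4 : 4 ≤ Nat.card B
  · obtain ⟨hzsq, hclass⟩ := h.square_class hB4
    have hCle : (C : Set L) ⊆ Sa := by
      intro c hc
      by_contra hn
      obtain ⟨hcT, hca, hcB, hacB⟩ := hout c hc hn
      have hnsq : ∀ u ∈ C, ¬ (u ∈ B ∨ a * u ∈ B) → ¬ ∃ b ∈ B, u * u = b * b := by
        rintro u hu hnu ⟨b, hb, hbb⟩
        obtain ⟨huT, hua, -, -⟩ := hout u hu hnu
        have hub : Commute u b := (h.Bcentral b hb u huT).symm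
        have h2 : (u * b⁻¹) ^ 2 = 1 := by
          rw [hub.inv_right.mul_pow, inv_pow, sq, sq, hbb, mul_inv_cancel]
        rcases hCinv (u * b⁻¹) (mul_mem hu (C.inv_mem ((hmemC b).mpr ⟨h.Ble hb, h.Bcentral b hb a ha⟩))) h2
          with hh | hh
        · exact hnu (Or.inl (by simpa using mul_mem hh hb))
        · exact hnu (Or.inr (by simpa [mul_assoc] using mul_mem hh hb))
      refine h.not_four_cosets ha ht hta hcT hca hcB hacB fun u huT hua => ?_
      have huC : u ∈ C := (hmemC u).mpr ⟨huT, hua⟩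
      have hcc : c * c ∈ B := by rw [← sq]; exact h.pow c hcT
      by_cases hu' : u ∈ B ∨ a * u ∈ B
      · rcases hu' with hh | hh
        · exact Or.inl hh
        · exact Or.inr (Or.inl hh)
      by_cases hcu : c * u ∈ B ∨ a * (c * u) ∈ B
      · exact hcov4 c hc u hcu hcc huT
      exfalso
      have huu : u * u ∈ B := by rw [← sq]; exact h.pow u huT
      obtain ⟨b, hb, hbb⟩ := hclass _ hcc _ huu
        (fun ⟨b, hb, e⟩ => hnsq c hc hn ⟨b, hb, e⟩) (fun ⟨b, hb, e⟩ => hnsq u huC hu' ⟨b, hb, e⟩)
      refine hnsq (c * u) (mul_mem hc huC) hcu ?_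
      rw [h.mul_sq hcT huT, mul_assoc, hbb]
      rcases h.val_two huT hcT with e | e
      · exact ⟨b, hb, by rw [e, one_mul]⟩
      · obtain ⟨f, hf, hff⟩ := hzsq
        refine ⟨f * b, mul_mem hf hb, ?_⟩
        rw [e, hff]
        have hfb : Commute f b := h.Bcentral f hf b (h.Ble hb)
        calc f * f * (b * b) = f * (f * b) * b := by group
          _ = f * (b * f) * b := by rw [hfb.eq]
          _ = _ := by group
    have h1 : Nat.card C ≤ 2 * Nat.card B :=
      hcardC ▸ (Set.ncard_le_ncard hCle (Set.toFinite _)).trans hSacard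
    have hlow : 2 * Nat.card B ≤ Nat.card C := by
      let ψ : Fin 2 × B → C := fun p => ⟨a ^ (p.1 : ℕ) * (p.2 : L), (hmemC _).mpr
        ⟨mul_mem (pow_mem ha _) (h.Ble p.2.2), ((Commute.refl a).pow_left _).mul_left (h.Bcentral _ p.2.2 a ha)⟩⟩
      have hψ : Function.Injective ψ := by
        rintro ⟨i, b⟩ ⟨j, b'⟩ ee
        have e' : a ^ (i : ℕ) * (b : L) = a ^ (j : ℕ) * (b' : L) := congrArg Subtype.val ee
        have hij : i = j := by
          fin_cases i <;> fin_cases j <;> simp at e' ⊢
          · exact haB (by rw [eq_mul_inv_of_mul_eq e'.symm]; exact mul_mem b.2 (inv_mem b'.2))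
          · exact haB (by rw [eq_mul_inv_of_mul_eq e']; exact mul_mem b'.2 (inv_mem b.2))
        subst hij
        exact Prod.ext rfl (Subtype.ext (mul_left_cancel e'))
      have := Nat.card_le_card_of_injective ψ hψ
      rwa [Nat.card_prod, Nat.card_fin] at this
    have hM : B.relIndex T = 4 := by
      have : B.relIndex T * Nat.card B = 4 * Nat.card B := by rw [hTM, ← hC2]; omega
      exact Nat.eq_of_mul_eq_mul_right (by omega) this
    have := h.card_involutions_le
    rw [hM] at this
    omega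
  · -- `B` has order two
    have hcB : Nat.card B = 2 := by
      have : eB < 2 := by
        by_contra hh
        have : 2 ^ 2 ≤ 2 ^ eB := Nat.pow_le_pow_right (by norm_num) (by omega)
        omega
      interval_cases eB <;> omega
    have hBz : ∀ b ∈ B, b = 1 ∨ b = z := by
      intro b hb
      by_contra hh
      push Not at hh
      let χ : Fin 3 → B := ![1, ⟨z, h.zmem⟩, ⟨b, hb⟩]
      have hχ : Function.Injective χ := by
        intro i j ee
        fin_cases i <;> fin_cases j <;> simp [χ, Subtype.ext_iff] at ee ⊢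
        all_goals first
          | exact h.zne ee.symm | exact h.zne ee | exact hh.1 ee.symm | exact hh.1 ee
          | exact hh.2 ee.symm | exact hh.2 ee
      have := Nat.card_le_card_of_injective χ hχ
      rw [Nat.card_fin, hcB] at this
      omega
    have hsqz : ∀ u ∈ T, u ^ 2 ≠ 1 → u * u = z := fun u hu hne => by
      rcases hBz _ (h.pow u hu) with e1 | e1
      · exact absurd e1 hne
      · rwa [sq] at e1
    by_cases hM4 : Nat.card T ≤ 8
    · -- small group: an element of order four removes four candidates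
      obtain ⟨u, huT, hu2⟩ : ∃ u ∈ T, u ^ 2 ≠ 1 := by
        by_contra hh
        push Not at hh
        refine haB (h.center a ha fun y hy => ?_)
        have e1 := hh _ (mul_mem ha hy)
        rw [sq, mul_eq_one_iff_eq_inv, mul_inv_rev, inv_eq_of_mul_eq_one_right (by rw [← sq]; exact hh y hy),
          inv_eq_of_mul_eq_one_right haa] at e1
        exact e1
      have huz := hsqz u huT hu2
      have huz' : (u * z) * (u * z) = z := by
        calc u * z * (u * z) = u * (z * u) * z := by group
          _ = u * (u * z) * z := by rw [(h.Bcentral z h.zmem u huT).eq]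
          _ = (u * u) * (z * z) := by group
          _ = z := by rw [huz, hzz, mul_one]
      have hsub : {x : L | x ∈ T ∧ x ∉ B ∧ x ^ 2 = 1} ⊆ (T : Set L) \ ↑({1, z, u, u * z} : Finset L) := by
        rintro x ⟨hxT, hxB, hx2⟩
        refine ⟨hxT, fun hmem => ?_⟩
        simp only [Finset.coe_insert, Finset.coe_singleton, Set.mem_insert_iff,
          Set.mem_singleton_iff] at hmem
        rcases hmem with rfl | rfl | rfl | rfl
        · exact hxB B.one_mem
        · exact hxB h.zmem
        · exact hu2 hx2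
        · rw [sq, huz'] at hx2; exact h.zne hx2
      have huB : u ∉ B := fun hb => by
        rcases hBz u hb with rfl | rfl
        · exact hu2 (one_pow 2)
        · exact hu2 h.zpow
      have h4 : ({1, z, u, u * z} : Finset L).card = 4 := by
        have n1 : (1 : L) ≠ u := fun ee => huB (ee ▸ B.one_mem)
        have n2 : (1 : L) ≠ u * z := fun ee => huB (by
          have := mul_mem (ee ▸ B.one_mem : u * z ∈ B) h.zmem
          rwa [mul_assoc, hzz, mul_one] at this)
        have n3 : z ≠ u := fun ee => huB (ee ▸ h.zmem)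
        have n4 : z ≠ u * z := fun ee => huB (by
          rw [show u = 1 from mul_eq_right.mp ee.symm]; exact B.one_mem)
        have n5 : u ≠ u * z := fun ee => h.zne (mul_eq_left.mp ee.symm)
        rw [Finset.card_insert_of_notMem, Finset.card_insert_of_notMem,
          Finset.card_insert_of_notMem, Finset.card_singleton]
        · simp [n5]
        · simp [n3, n4]
        · simp [h.zne.symm, n1, n2]
      refine (Set.ncard_le_ncard hsub (Set.toFinite _)).trans ?_
      have hin : (↑({1, z, u, u * z} : Finset L) : Set L) ⊆ (T : Set L) := by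
        intro x hx
        simp only [Finset.coe_insert, Finset.coe_singleton, Set.mem_insert_iff,
          Set.mem_singleton_iff] at hx
        rcases hx with rfl | rfl | rfl | rfl
        exacts [T.one_mem, h.zT, huT, mul_mem huT h.zT]
      rw [Set.ncard_sdiff hin (Finset.finite_toSet _), Set.ncard_coe_finset, h4,
        ← Nat.card_coe_set_eq]
      change Nat.card T - 4 ≤ _
      omega
    · -- larger groups
      have hTge : 16 ≤ Nat.card T := by
        rw [he] at hM4 ⊢
        have : 4 ≤ e := by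
          by_contra hh
          have : 2 ^ e ≤ 2 ^ 3 := Nat.pow_le_pow_right (by norm_num) (by omega)
          omega
        calc 16 = 2 ^ 4 := by norm_num
          _ ≤ _ := Nat.pow_le_pow_right (by norm_num) this
      obtain ⟨c, hc, hn⟩ : ∃ c ∈ C, ¬ (c ∈ B ∨ a * c ∈ B) := by
        by_contra hh
        push Not at hh
        have : Nat.card C ≤ 2 * Nat.card B := hcardC ▸
          (Set.ncard_le_ncard (fun u hu => hh u hu) (Set.toFinite _)).trans hSacard
        omega
      obtain ⟨hcT, hca, hcB', hacB⟩ := hout c hc hn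
      have hc2 : c * c = z := hsqz c hcT fun e2 => (hCinv c hc e2).elim hcB' hacB
      let S4 : Set L := Sa ∪ (fun u => c⁻¹ * u) '' Sa
      have hS4 : S4.ncard ≤ 4 * Nat.card B := by
        refine (Set.ncard_union_le _ _).trans ?_
        have := Set.ncard_image_le (f := fun u => c⁻¹ * u) (Set.toFinite Sa)
        omega
      by_cases h32 : Nat.card T ≤ 32
      · -- order 16 or 32
        rcases (show Nat.card T = 16 ∨ Nat.card T = 32 by
          rw [he] at h32 hTge ⊢
          have h5 : e ≤ 5 := (Nat.pow_le_pow_iff_right (le_refl 2)).mp (h32.trans (by norm_num))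
          have h4 : 4 ≤ e := (Nat.pow_le_pow_iff_right (le_refl 2)).mp (le_trans (by norm_num) hTge)
          interval_cases e <;> simp) with h16 | h32'
        · exfalso
          refine h.not_four_cosets ha ht hta hcT hca hcB' hacB fun u huT hua => ?_
          by_contra hu
          push Not at hu
          obtain ⟨hu1, hu2, hu3, hu4⟩ := hu
          have hab : Commute a c := hca.symm
          let ψ : Fin 5 × B → C := fun p => ⟨(![1, a, c, a * c, u] : Fin 5 → L) p.1 * (p.2 : L),
            mul_mem (by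
              obtain ⟨i, -⟩ := p
              fin_cases i
              exacts [one_mem _, (hmemC a).mpr ⟨ha, Commute.refl a⟩, hc,
                mul_mem ((hmemC a).mpr ⟨ha, Commute.refl a⟩) hc, (hmemC u).mpr ⟨huT, hua⟩])
              ((hmemC _).mpr ⟨h.Ble p.2.2, h.Bcentral _ p.2.2 a ha⟩)⟩
          have hψ : Function.Injective ψ := by
            rintro ⟨i, b⟩ ⟨j, b'⟩ ee
            have e' := congrArg Subtype.val ee
            simp only [ψ] at e'
            suffices hij : i = j by
              subst hij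
              exact Prod.ext rfl (Subtype.ext (mul_left_cancel e'))
            have key : (((![1, a, c, a * c, u] : Fin 5 → L) i))⁻¹ * (![1, a, c, a * c, u] : Fin 5 → L) j ∈ B := by
              have : ((![1, a, c, a * c, u] : Fin 5 → L) i)⁻¹ * (![1, a, c, a * c, u] : Fin 5 → L) j =
                  (b : L) * (b' : L)⁻¹ := by
                rw [eq_mul_inv_iff_mul_eq, mul_assoc, ← e', inv_mul_cancel_left]
              rw [this]; exact mul_mem b.2 (inv_mem b'.2)
            have hai : a⁻¹ = a := inv_eq_of_mul_eq_one_right haa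
            have hci : c⁻¹ = c * z := inv_eq_of_mul_eq_one_right (by rw [← mul_assoc, hc2, hzz])
            have hB1 : ∀ x, x ∈ B → x⁻¹ ∈ B := fun x hx => B.inv_mem hx
            have hzc : ∀ x, c * z * x ∈ B ↔ c * x ∈ B := fun x => by
              rw [show c * z * x = z * (c * x) by
                rw [(h.Bcentral z h.zmem c hcT).symm.eq, mul_assoc]]
              exact B.mul_mem_cancel_left h.zmem
            have k01 : a ∉ B := haB
            have k02 : c ∉ B := hcB'
            have k12 : a⁻¹ * c ∉ B := by rwa [hai]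
            have k13 : a⁻¹ * (a * c) ∉ B := by rwa [inv_mul_cancel_left]
            have k14 : a⁻¹ * u ∉ B := by rwa [hai]
            have k23 : c⁻¹ * (a * c) ∉ B := by
              rw [hab.eq, inv_mul_cancel_left]; exact haB
            have k24 : c⁻¹ * u ∉ B := by rw [hci, hzc]; exact hu3
            have k34 : (a * c)⁻¹ * u ∉ B := by
              rw [mul_inv_rev, hai, hci, mul_assoc, hzc, ← mul_assoc, ← hab.eq]; exact hu4
            have sym : ∀ x y : L, x⁻¹ * y ∈ B → y⁻¹ * x ∈ B := fun x y hxy => by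
              have := hB1 _ hxy
              simpa using this
            fin_cases i <;> fin_cases j <;> first
              | rfl
              | (exfalso
                 simp only [Matrix.cons_val_zero, Matrix.cons_val_one, Matrix.cons_val_two,
                   Matrix.cons_val_three, Matrix.cons_val_four, Matrix.head_cons, Matrix.tail_cons,
                   Fin.mk_zero, Fin.mk_one, Fin.reduceFinMk, Matrix.cons_val] at key
                 have key' := sym _ _ key
                 try simp only [inv_one, one_mul, mul_one] at key key'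
                 first
                 | exact k01 key | exact k01 key' | exact k02 key | exact k02 key'
                 | exact hacB key | exact hacB key' | exact hu1 key | exact hu1 key'
                 | exact k12 key | exact k12 key' | exact k13 key | exact k13 key'
                 | exact k14 key | exact k14 key' | exact k23 key | exact k23 key'
                 | exact k24 key | exact k24 key' | exact k34 key | exact k34 key')
          have := Nat.card_le_card_of_injective ψ hψ
          rw [Nat.card_prod, Nat.card_fin, hcB] at this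
          omega
        · -- order 32: pairwise non-commuting involutions
          set P : Set L := {x : L | x ∈ T ∧ x ∉ B ∧ x ^ 2 = 1} with hP
          have hPC : ∀ x ∈ P, x ∈ C → x ∈ Sa := fun x hx hxC => hCinv x hxC hx.2.2
          by_cases hsubSa : P ⊆ Sa
          · have := (Set.ncard_le_ncard hsubSa (Set.toFinite _)).trans hSacard
            omega
          obtain ⟨y, hyP, hySa⟩ := Set.not_subset.mp hsubSa
          have hyC : y ∉ C := fun hy => hySa (hPC y hyP hy)
          have hyT : y ∈ T := hyP.1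
          obtain ⟨d, hd, hdy⟩ : ∃ d ∈ C, ⁅d, y⁆ = z := by
            by_contra hh
            push Not at hh
            have hcom : ∀ d ∈ C, Commute d y := fun d hd => by
              rcases h.val_two ((hmemC d).mp hd).1 hyT with e1 | e1
              · exact commutatorElement_eq_one_iff_commute.mp e1
              · exact absurd e1 (hh d hd)
            have hya : ⁅y, a⁆ = z := (h.val_two hyT ha).resolve_left fun e1 =>
              hyC ((hmemC y).mpr ⟨hyT, commutatorElement_eq_one_iff_commute.mp e1⟩)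
            refine hyP.2.1 (h.center y hyT fun w hw => ?_)
            rcases h.val_two hw ha with e1 | e1
            · exact (hcom w ((hmemC w).mpr ⟨hw, commutatorElement_eq_one_iff_commute.mp e1⟩)).symm
            · have h2 : ⁅y * w, a⁆ = 1 := by rw [h.comm_mul_left hyT hw ha, hya, e1, hzz]
              have := (Commute.refl y).inv_right.mul_right
                (hcom _ ((hmemC _).mpr ⟨mul_mem hyT hw, commutatorElement_eq_one_iff_commute.mp h2⟩)).symm
              rwa [inv_mul_cancel_left] at this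
          let K : Subgroup L := C ⊓ Subgroup.centralizer {y}
          have hK : Nat.card K * 2 ≤ Nat.card C := by
            let ψ : K × Fin 2 → C := fun p => ⟨(p.1 : L) * d ^ (p.2 : ℕ), mul_mem p.1.2.1 (pow_mem hd _)⟩
            have hψ : Function.Injective ψ := by
              rintro ⟨k, i⟩ ⟨k', j⟩ ee
              have e' : (k : L) * d ^ (i : ℕ) = (k' : L) * d ^ (j : ℕ) := congrArg Subtype.val ee
              suffices hij : i = j by
                subst hij
                exact Prod.ext (Subtype.ext (mul_right_cancel e')) rfl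
              have hdK : d ∉ K := fun hh => h.zne (by
                rw [← hdy]
                exact commutatorElement_eq_one_iff_commute.mpr
                  (Subgroup.mem_centralizer_singleton_iff.mp hh.2))
              fin_cases i <;> fin_cases j <;> simp at e' ⊢
              · exact hdK (by rw [eq_inv_mul_of_mul_eq e'.symm]; exact mul_mem (inv_mem k'.2) k.2)
              · exact hdK (by rw [eq_inv_mul_of_mul_eq e']; exact mul_mem (inv_mem k.2) k'.2)
            have := Nat.card_le_card_of_injective ψ hψ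
            rwa [Nat.card_prod, Nat.card_fin] at this
          let R : Set L := {u | u ∈ T ∧ ⁅u, a⁆ = z ∧ ⁅u, y⁆ = z}
          have hR : R.ncard ≤ Nat.card K := by
            by_cases hne : R.Nonempty
            · obtain ⟨u0, hu0T, hu0a, hu0y⟩ := hne
              have hsub : R ⊆ (fun k => u0 * k) '' (K : Set L) := by
                rintro u ⟨huT, hua, huy⟩
                refine ⟨u0⁻¹ * u, ?_, mul_inv_cancel_left _ _⟩
                have key : ∀ w ∈ T, ⁅u0, w⁆ = z → ⁅u, w⁆ = z → ⁅u0⁻¹ * u, w⁆ = 1 := fun w hw h0 h1 => by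
                  have := h.comm_mul_left hu0T (mul_mem (inv_mem hu0T) huT) hw
                  rw [mul_inv_cancel_left, h0, h1] at this
                  exact mul_eq_left.mp this.symm
                refine ⟨(hmemC _).mpr ⟨mul_mem (inv_mem hu0T) huT,
                  commutatorElement_eq_one_iff_commute.mp (key a ha hu0a hua)⟩, ?_⟩
                exact Subgroup.mem_centralizer_singleton_iff.mpr
                  (commutatorElement_eq_one_iff_commute.mp (key y hyT hu0y huy)).eq
              refine (Set.ncard_le_ncard hsub (Set.toFinite _)).trans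
                ((Set.ncard_image_le (Set.toFinite _)).trans ?_)
              rw [← Nat.card_coe_set_eq]; rfl
            · rw [Set.not_nonempty_iff_eq_empty.mp hne]; simp
          have hsub : P ⊆ (fun b => a⁻¹ * b) '' (B : Set L) ∪ (fun b => y⁻¹ * b) '' (B : Set L) ∪ R := by
            intro x hx
            rcases h.val_two hx.1 ha with e1 | e1
            · exact Or.inl (Or.inl ⟨_, hno a ha x hx.1 haB hx.2.1 has hx.2.2
                (commutatorElement_eq_one_iff_commute.mp e1).symm, inv_mul_cancel_left a x⟩)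
            · rcases h.val_two hx.1 hyT with e2 | e2
              · exact Or.inl (Or.inr ⟨_, hno y hyT x hx.1 hyP.2.1 hx.2.1 hyP.2.2 hx.2.2
                  (commutatorElement_eq_one_iff_commute.mp e2).symm, inv_mul_cancel_left y x⟩)
              · exact Or.inr ⟨hx.1, e1, e2⟩
          have i1 := Set.ncard_image_le (f := fun b => a⁻¹ * b) (Set.toFinite (B : Set L))
          have i2 := Set.ncard_image_le (f := fun b => y⁻¹ * b) (Set.toFinite (B : Set L))
          have i3 : (B : Set L).ncard = 2 := by rw [← Nat.card_coe_set_eq]; exact hcB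
          have i4 := Set.ncard_le_ncard hsub (Set.toFinite _)
          have i5 := Set.ncard_union_le ((fun b => a⁻¹ * b) '' (B : Set L) ∪
            (fun b => y⁻¹ * b) '' (B : Set L)) R
          have i6 := Set.ncard_union_le ((fun b => a⁻¹ * b) '' (B : Set L))
            ((fun b => y⁻¹ * b) '' (B : Set L))
          omega
      · -- a new commuting element gives an involution
        exfalso
        have hbig : 64 ≤ Nat.card T := by
          rw [he] at h32 ⊢
          have : 6 ≤ e := by
            by_contra hh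
            have : 2 ^ e ≤ 2 ^ 5 := Nat.pow_le_pow_right (by norm_num) (by omega)
            omega
          calc 64 = 2 ^ 6 := by norm_num
            _ ≤ _ := Nat.pow_le_pow_right (by norm_num) this
        let φ := h.pairing c hcT
        have hD : Nat.card C ≤ 2 * {u | u ∈ C ∧ Commute u c}.ncard := by
          rw [← hcardC]
          have hsplit : (C : Set L) = {u | u ∈ C ∧ Commute u c} ∪ {u | u ∈ C ∧ ¬ Commute u c} := by
            ext u; by_cases hu : Commute u c <;> simp [hu]
          rw [hsplit]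
          refine (Set.ncard_union_le _ _).trans ?_
          by_cases hne : {u | u ∈ C ∧ ¬ Commute u c}.Nonempty
          · obtain ⟨u0, hu0, hu0c⟩ := hne
            have : {u | u ∈ C ∧ ¬ Commute u c}.ncard ≤ {u | u ∈ C ∧ Commute u c}.ncard := by
              refine Set.ncard_le_ncard_of_injOn (fun u => u0 * u) (fun u hu => ?_)
                (fun p _ q _ e1 => mul_left_cancel e1) (Set.toFinite _)
              refine ⟨mul_mem hu0 hu.1, commutatorElement_eq_one_iff_commute.mp ?_⟩
              rw [h.comm_mul_left ((hmemC u0).mp hu0).1 ((hmemC u).mp hu.1).1 hcT,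
                (h.val_two ((hmemC u0).mp hu0).1 hcT).resolve_left
                  (fun e1 => hu0c (commutatorElement_eq_one_iff_commute.mp e1)),
                (h.val_two ((hmemC u).mp hu.1).1 hcT).resolve_left
                  (fun e1 => hu.2 (commutatorElement_eq_one_iff_commute.mp e1)), hzz]
            omega
          · rw [Set.not_nonempty_iff_eq_empty.mp hne]; simp; omega
        obtain ⟨w, ⟨hwC, hwc⟩, hw4⟩ : ∃ w ∈ {u | u ∈ C ∧ Commute u c}, w ∉ S4 := by
          by_contra hh
          push Not at hh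
          have := Set.ncard_le_ncard (fun u hu => hh u hu : {u | u ∈ C ∧ Commute u c} ⊆ S4) (Set.toFinite _)
          omega
        have hw' : ¬ (w ∈ B ∨ a * w ∈ B) := fun hh => hw4 (Or.inl hh)
        obtain ⟨hwT, -, -, -⟩ := hout w hwC hw'
        have hw2 : w * w = z := hsqz w hwT fun e1 => hw' (hCinv w hwC e1)
        have hcw2 : (c * w) ^ 2 = 1 := by
          rw [hwc.symm.mul_pow, sq, sq, hc2, hw2, hzz]
        refine hw4 (Or.inr ⟨c * w, hCinv _ (mul_mem hc hwC) hcw2, inv_mul_cancel_left c w⟩)

/-- The class two case contradicts the negated bound. -/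
theorem contra [Fact r.Prime] [Nontrivial V] (h : Two W T B z s V) (H : Hyp W V r)
    (hbig : 2 ^ 256 ≤ Nat.card V) {a : L} (ha : a ∈ T) (haB : a ∉ B) (has : a ^ s = 1) : False := by
  obtain ⟨d, hd, hM⟩ := h.relIndex_le H.char H.cop
  have hd1 : 1 ≤ d := by
    rcases Nat.eq_zero_or_pos d with rfl | hd'
    · rw [pow_zero] at hd; rw [← hd] at hbig; norm_num at hbig
    · exact hd'
  have hM1 : 1 ≤ B.relIndex T := Nat.one_le_iff_ne_zero.mpr Subgroup.index_ne_zero_of_finite
  set P : Set L := {x : L | x ∈ T ∧ x ∉ B ∧ x ^ s = 1} with hP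
  have hPinv : ∀ g, ∀ i ∈ P, g * i * g⁻¹ ∈ P := fun g i hi => h.conj_invariant g hi
  obtain ⟨v, hv0, hv⟩ := h.exists_fixed H ha haB has
  have hFmov : ∀ g : L, ∀ i : L, ∀ w ∈ fixAdd (V := V) i, g • w ∈ fixAdd (V := V) (g * i * g⁻¹) :=
    fun g i w hw => (conj_fix rfl).mpr hw
  obtain ⟨x₀, hx₀, hmax⟩ := Set.exists_max_image P (fun x => Nat.card (fixAdd (V := V) x))
    (Set.toFinite _) ⟨a, ha, haB, has⟩
  set Q := Nat.card (fixAdd (V := V) x₀) with hQdef
  have hQ1 : 1 ≤ Q := Nat.card_pos
  have hQs : Q ^ s ≤ Nat.card V := h.fix_pow_le H.char H.cop hx₀.1 hx₀.2.1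
  have horb := h.orbit_pair (v := v) ha haB (fun p q => ∃ t ∈ T, t * p.1 * t⁻¹ = q.1 ∧ t • p.2 = q.2)
    fun _ _ => Iff.rfl
  have hinc := incidence_bound (W := W) (V := V) H.fpf h.Tle P (fun g i => g * i * g⁻¹)
    (fun i => by simp) (fun g g' i => by group) hPinv (fun i => fixAdd i) hFmov
    (Q := Q) (fun i hi => hmax i hi) (show a ∈ P from ⟨ha, haB, has⟩) (show v ∈ fixAdd a from hv) hv0
  have horb' : s * (orbit (T ⊓ Subgroup.centralizer {a} : Subgroup L) v).ncard * W.index ≤
      P.ncard * (Q - 1) := by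
    refine le_trans ?_ hinc
    rw [mul_comm _ W.index]
    exact Nat.mul_le_mul le_rfl horb
  have hPle : P.ncard ≤ s * B.relIndex T := h.card_involutions_le
  have hspos : 0 < s := (Fact.out : s.Prime).pos
  by_cases hs3 : 3 ≤ s
  · have hso : s ≤ (orbit (T ⊓ Subgroup.centralizer {a} : Subgroup L) v).ncard := by
      have hzC : z ∈ (T ⊓ Subgroup.centralizer {a} : Subgroup L) :=
        ⟨h.zT, Subgroup.mem_centralizer_singleton_iff.mpr (h.Bcentral z h.zmem a ha).eq⟩
      rw [← Nat.card_coe_set_eq]
      let f : Fin s → orbit (T ⊓ Subgroup.centralizer {a} : Subgroup L) v := fun j =>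
        ⟨z ^ (j : ℕ) • v, ⟨⟨z ^ (j : ℕ), pow_mem hzC _⟩, rfl⟩⟩
      have hf : Function.Injective f := fun i j ee => by
        by_contra hij
        have e' : z ^ (i : ℕ) • v = z ^ (j : ℕ) • v := congrArg Subtype.val ee
        refine hv0 (h.zpow_fpf (c := (z ^ (j : ℕ))⁻¹ * z ^ (i : ℕ))
          (mul_mem (inv_mem (pow_mem (Subgroup.mem_zpowers z) _)) (pow_mem (Subgroup.mem_zpowers z) _))
          (fun e2 => hij ?_) ?_)
        · have := pow_inj_mod.mp (inv_mul_eq_one.mp e2)
          rw [orderOf_eq_prime h.zpow h.zne, Nat.mod_eq_of_lt i.2, Nat.mod_eq_of_lt j.2] at this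
          exact Fin.ext this.symm
        · rw [mul_smul, e', inv_smul_smul]
      have := Nat.card_le_card_of_injective f hf
      rwa [Nat.card_fin] at this
    have h1 : s * s * W.index ≤ s * B.relIndex T * Q := by
      calc s * s * W.index ≤ s * _ * W.index := Nat.mul_le_mul (Nat.mul_le_mul le_rfl hso) le_rfl
        _ ≤ P.ncard * (Q - 1) := horb'
        _ ≤ s * B.relIndex T * Q := Nat.mul_le_mul hPle (Nat.sub_le _ _)
    have h2 : s * W.index ≤ B.relIndex T * Q := by
      rw [mul_assoc, mul_assoc] at h1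
      exact Nat.le_of_mul_le_mul_left h1 hspos
    have h3 : W.index ≤ 4 * B.relIndex T ^ 2 * Q := by
      calc W.index ≤ s * W.index := Nat.le_mul_of_pos_left _ hspos
        _ ≤ B.relIndex T * Q := h2
        _ ≤ _ := Nat.mul_le_mul (by nlinarith) le_rfl
    exact H.neg (sq_le_of_small (Fact.out : r.Prime).two_le hd hbig hd1 hQ1
      (le_trans (Nat.pow_le_pow_right hQ1 hs3) hQs) hM h3)
  obtain rfl : s = 2 := by have := (Fact.out : s.Prime).two_le; omega
  by_cases hpair : ∃ x ∈ P, ∃ y ∈ P, Commute x y ∧ x * y ∉ B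
  · obtain ⟨x, hx, y₀, hy₀, hxy₀, hxyB₀⟩ := hpair
    obtain ⟨w, hw0, hw⟩ := h.exists_fixed H hx.1 hx.2.1 hx.2.2
    obtain ⟨y, hy, hxy, hxyB, u, hu0, hux, huy⟩ : ∃ y ∈ P, Commute x y ∧ x * y ∉ B ∧
        ∃ u : V, u ≠ 0 ∧ x • u = u ∧ y • u = u := by
      by_cases hu : w + y₀ • w = 0
      · refine ⟨z * y₀, ⟨mul_mem h.zT hy₀.1, fun hB => hy₀.2.1 ((B.mul_mem_cancel_left h.zmem).mp hB), ?_⟩,
          ((h.Bcentral z h.zmem x hx.1).symm).mul_right hxy₀, fun hB => hxyB₀ ?_, w, hw0, hw, ?_⟩
        · rw [(h.Bcentral z h.zmem y₀ hy₀.1).mul_pow, h.zpow, hy₀.2.2, one_mul]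
        · rw [← mul_assoc, ← (h.Bcentral z h.zmem x hx.1).eq, mul_assoc] at hB
          exact (B.mul_mem_cancel_left h.zmem).mp hB
        · have hyw : y₀ • w = -w := eq_neg_of_add_eq_zero_right hu
          have hzw : z • w = -w := by
            have := h.zfpf (w + z • w) (by
              rw [smul_add, ← mul_smul, ← sq, h.zpow, one_smul, add_comm])
            exact eq_neg_of_add_eq_zero_right this
          rw [mul_smul, hyw, smul_neg, hzw, neg_neg]
      · exact ⟨y₀, hy₀, hxy₀, hxyB₀, _, hu,
          by rw [smul_add, hw, ← mul_smul, hxy₀.eq, mul_smul, hw],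
          by rw [smul_add, ← mul_smul, ← sq, hy₀.2.2, one_smul, add_comm]⟩
    let P2 : Set (L × L) := {p | p.1 ∈ P ∧ p.2 ∈ P ∧ Commute p.1 p.2 ∧ p.1 * p.2 ∉ B}
    let F2 : L × L → AddSubgroup V := fun p => fixSubgroup (Subgroup.closure {p.1, p.2})
    obtain ⟨p₀, hp₀, hmax2⟩ := Set.exists_max_image P2 (fun p => Nat.card (F2 p))
      (Set.toFinite _) ⟨(x, y), hx, hy, hxy, hxyB⟩
    have hmem2 : ∀ (p : L × L) (w : V), w ∈ F2 p ↔ p.1 • w = w ∧ p.2 • w = w := fun p w => by
      rw [mem_fixSubgroup]
      refine ⟨fun hh => ⟨hh _ (Subgroup.subset_closure (by simp)), hh _ (Subgroup.subset_closure (by simp))⟩,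
        fun hh b hb => ?_⟩
      exact ((Subgroup.closure_le (stabilizer L w)).mpr (by
        rintro c (rfl | rfl)
        · exact hh.1
        · exact hh.2)) hb
    have hinc2 := incidence_bound (W := W) (V := V) H.fpf h.Tle P2
      (fun g p => (g * p.1 * g⁻¹, g * p.2 * g⁻¹)) (fun p => by simp) (fun g g' p => by ext <;> group)
      (fun g p hp => ⟨hPinv g _ hp.1, hPinv g _ hp.2.1, by
          change g * p.1 * g⁻¹ * (g * p.2 * g⁻¹) = g * p.2 * g⁻¹ * (g * p.1 * g⁻¹)
          rw [show g * p.1 * g⁻¹ * (g * p.2 * g⁻¹) = g * (p.1 * p.2) * g⁻¹ by group, hp.2.2.1.eq]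
          group,
        fun hB => hp.2.2.2 (by
          have := h.Bnormal.conj_mem _ hB g⁻¹
          simpa [mul_assoc] using this)⟩)
      F2 (fun g p w hw => (hmem2 _ _).mpr
        ⟨(conj_fix rfl).mpr ((hmem2 _ _).mp hw).1, (conj_fix rfl).mpr ((hmem2 _ _).mp hw).2⟩)
      (Q := Nat.card (F2 p₀)) (fun i hi => hmax2 i hi)
      (show (x, y) ∈ P2 from ⟨hx, hy, hxy, hxyB⟩) ((hmem2 _ u).mpr ⟨hux, huy⟩) hu0
    have hone : 1 ≤ {q : (L × L) × V | ∃ t ∈ T, (t * x * t⁻¹, t * y * t⁻¹) = q.1 ∧ t • u = q.2}.ncard :=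
      Nat.one_le_iff_ne_zero.mpr (Set.ncard_ne_zero_of_mem
        (show ((x, y), u) ∈ _ from ⟨1, one_mem _, by simp, by simp⟩) (Set.toFinite _))
    have hP2 : P2.ncard ≤ P.ncard * P.ncard := by
      rw [← Set.ncard_prod]
      exact Set.ncard_le_ncard (fun p hp => ⟨hp.1, hp.2.1⟩) (Set.toFinite _)
    have h3 : W.index ≤ 4 * B.relIndex T ^ 2 * Nat.card (F2 p₀) := by
      calc W.index ≤ W.index * _ := Nat.le_mul_of_pos_right _ hone
        _ ≤ P2.ncard * (Nat.card (F2 p₀) - 1) := hinc2
        _ ≤ (2 * B.relIndex T) * (2 * B.relIndex T) * Nat.card (F2 p₀) :=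
          Nat.mul_le_mul (hP2.trans (Nat.mul_le_mul hPle hPle)) (Nat.sub_le _ _)
        _ = _ := by ring
    have h4 : Nat.card (F2 p₀) ^ 4 ≤ Nat.card V :=
      h.pair_fix_le H hp₀.1.1 hp₀.2.1.1 hp₀.1.2.1 hp₀.2.1.2.1 hp₀.2.2.2 hp₀.2.2.1
    exact H.neg (sq_le_of_small (Fact.out : r.Prime).two_le hd hbig hd1 Nat.card_pos
      (le_trans (Nat.pow_le_pow_right Nat.card_pos (by norm_num)) h4) hM h3)
  push Not at hpair
  set C : Subgroup L := T ⊓ Subgroup.centralizer {a} with hC
  have hsmall : P.ncard ≤ Nat.card C := h.ncard_le_of_small ha haB has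
    fun x hx y hy hxB hyB hx2 hy2 hxy => hpair x ⟨hx, hxB, hx2⟩ y ⟨hy, hyB, hy2⟩ hxy
  have hstab : Nat.card (stabilizer C v) ≤ 2 := by
    let f : stabilizer C v → ({1, a} : Finset L) := fun t => ⟨((t : C) : L), by
      simp only [Finset.mem_insert, Finset.mem_singleton]
      obtain ⟨⟨t, htT, htC⟩, htv⟩ := t
      change t = 1 ∨ t = a
      have htv' : t • v = v := htv
      have ht2 : t ^ 2 = 1 := h.b_fpf (h.pow t htT) hv0 (pow_mem (show t ∈ stabilizer L v from htv') 2)
      by_cases htB : t ∈ B
      · exact Or.inl (h.b_fpf htB hv0 htv')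
      · right
        have := hpair t ⟨htT, htB, ht2⟩ a ⟨ha, haB, has⟩ (Subgroup.mem_centralizer_singleton_iff.mp htC)
        have h1 : t * a = 1 := h.b_fpf this hv0 (by rw [mul_smul, hv, htv'])
        rw [eq_inv_of_mul_eq_one_left h1]
        exact inv_eq_of_mul_eq_one_right (by rw [← sq]; exact has)⟩
    have hf : Function.Injective f := fun p q ee =>
      Subtype.ext (Subtype.ext (congrArg (fun w : ({1, a} : Finset L) => (w : L)) ee))
    refine (Nat.card_le_card_of_injective f hf).trans ?_
    rw [Nat.card_eq_fintype_card, Fintype.card_coe]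
    exact (Finset.card_insert_le _ _).trans (by simp)
  have hCorb : Nat.card C ≤ 2 * (orbit C v).ncard := by
    rw [← index_stabilizer, ← (stabilizer C v).card_mul_index]
    exact Nat.mul_le_mul hstab le_rfl
  have h5 : Nat.card C * W.index ≤ Nat.card C * (Q - 1) :=
    calc Nat.card C * W.index ≤ 2 * (orbit C v).ncard * W.index := Nat.mul_le_mul hCorb le_rfl
      _ ≤ P.ncard * (Q - 1) := horb'
      _ ≤ _ := Nat.mul_le_mul hsmall le_rfl
  have h6 : W.index ≤ Q - 1 := Nat.le_of_mul_le_mul_left h5 Nat.card_pos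
  exact H.neg (le_trans (Nat.pow_le_pow_left (show W.index + 1 ≤ Q by omega) 2) hQs)

end Two

end Cfsg.Agent.DerangeIdx
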