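import Cfsg.Agent.DerangeIdx.LinBasic

/-!
# A normal abelian subgroup with fixed vectors forces a small index
-/

set_option autoImplicit false
set_option linter.unusedSectionVars false
set_option linter.style.haveILetI false

namespace Cfsg.Agent.DerangeIdx

open MulAction Finset
open scoped Classical

/-- A numerical inequality for imprimitive linear groups. -/
theorem sq_le_of_two_mul_le {k m Q n : ℕ} (hm : 2 ≤ m) (hQ : 2 ≤ Q) (hk : 2 * k ≤ m * (Q - 1))
    (hn : Q ^ m ≤ n) : (k + 1) ^ 2 ≤ n := by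
  obtain ⟨q, rfl⟩ : ∃ q, Q = q + 1 := ⟨Q - 1, by omega⟩
  simp only [Nat.add_sub_cancel] at hk
  have key : ∀ m, 2 ≤ m → (m * q + 2) ^ 2 ≤ 4 * (q + 1) ^ m := by
    intro m hm
    induction m, hm using Nat.le_induction with
    | base => ring_nf; omega
    | succ m hm' ih =>
      have h1 : ((m + 1) * q + 2) ^ 2 ≤ (q + 1) * (m * q + 2) ^ 2 := by
        obtain ⟨t, ht⟩ : ∃ t, t = m * q + 2 := ⟨_, rfl⟩
        have h4 : q + 2 ≤ t := by nlinarith
        have h5 : 2 * t + q ≤ t * t := by nlinarith [Nat.mul_le_mul_left t h4]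
        rw [show (m + 1) * q + 2 = t + q by rw [ht]; ring, ← ht]
        nlinarith [Nat.mul_le_mul_left q h5]
      calc ((m + 1) * q + 2) ^ 2 ≤ (q + 1) * (m * q + 2) ^ 2 := h1
        _ ≤ (q + 1) * (4 * (q + 1) ^ m) := Nat.mul_le_mul le_rfl ih
        _ = 4 * (q + 1) ^ (m + 1) := by ring
  have h1 := key m hm
  have h2 : (2 * (k + 1)) ^ 2 ≤ (m * q + 2) ^ 2 := Nat.pow_le_pow_left (by omega) 2
  nlinarith

variable {L V : Type*} [Group L] [Finite L] [AddCommGroup V] [Finite V] [DistribMulAction L V]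

/-- The standing hypotheses of the linear lemma, with the conclusion negated. -/
structure Hyp (W : Subgroup L) (V : Type*) [AddCommGroup V] [Finite V] [DistribMulAction L V]
    (r : ℕ) : Prop where
  fpf : Fpf W V
  char : ∀ v : V, r • v = 0
  cop : (Nat.card L).Coprime r
  neg : ¬ (W.index + 1) ^ 2 ≤ Nat.card V
  faithful : ∀ g : L, (∀ v : V, g • v = v) → g = 1

variable {W : Subgroup L} [W.Normal] {r : ℕ}

theorem Hyp.irr (h : Hyp W V r) (U : AddSubgroup V) (hU : ∀ g : L, ∀ v ∈ U, g • v ∈ U) :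
    U = ⊥ ∨ U = ⊤ := by
  by_contra hc
  push Not at hc
  exact h.neg (sq_le_of_invariant h.fpf U hU hc.1 hc.2)

theorem Hyp.fix_eq_zero (h : Hyp W V r) (N : Subgroup L) [N.Normal] (hN : N ≠ ⊥) {v : V}
    (hv : ∀ a ∈ N, a • v = v) : v = 0 := by
  rcases h.irr (fixSubgroup N) fun g w hw => smul_mem_fixSubgroup_of_normal g hw with h' | h'
  · have : v ∈ fixSubgroup (V := V) N := mem_fixSubgroup.mpr hv
    rwa [h', AddSubgroup.mem_bot] at this
  · exfalso
    refine hN ((Subgroup.eq_bot_iff_forall _).mpr fun a ha => h.faithful a fun w => ?_)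
    have : w ∈ fixSubgroup (V := V) N := by rw [h']; trivial
    exact mem_fixSubgroup.mp this a ha

theorem orbit_two_le (h : Hyp W V r) (hW : W ≠ ⊥) {v : V} (hv : v ≠ 0) :
    2 ≤ (orbit W v).ncard := by
  by_contra hlt
  have h1 : (orbit W v).ncard = 1 := by
    have := Set.ncard_ne_zero_of_mem (mem_orbit_self (M := W) v) (Set.toFinite _)
    omega
  obtain ⟨w, hw⟩ := Set.ncard_eq_one.mp h1
  refine hv (h.fix_eq_zero W hW fun a ha => ?_)
  have e1 : (⟨a, ha⟩ : W) • v ∈ orbit W v := mem_orbit _ _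
  have e2 : v ∈ orbit W v := mem_orbit_self v
  rw [hw, Set.mem_singleton_iff] at e1 e2
  exact e1.trans e2.symm

/-- No normal abelian subgroup inside `W` has an element fixing a non-zero vector. -/
theorem Hyp.abelian_fpf (h : Hyp W V r) (A : Subgroup L) [A.Normal] (hAW : A ≤ W)
    (hAc : ∀ a ∈ A, ∀ b ∈ A, Commute a b) {a : L} (ha : a ∈ A) (ha1 : a ≠ 1) {v : V} (hv : v ≠ 0)
    (hfix : a • v = v) : False := by
  let 𝒞 : Set (Subgroup L) := {C | C ≤ A ∧ fixSubgroup (V := V) C ≠ ⊥}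
  have h0 : Subgroup.zpowers a ∈ 𝒞 := by
    refine ⟨by rwa [Subgroup.zpowers_le], fun e => hv ?_⟩
    have : v ∈ fixSubgroup (V := V) (Subgroup.zpowers a) := mem_fixSubgroup.mpr fun b hb =>
      (Subgroup.zpowers_le (g := a) (H := stabilizer L v)).mpr hfix hb
    rwa [e, AddSubgroup.mem_bot] at this
  obtain ⟨C, hC0, hCmax⟩ := (Set.toFinite 𝒞).exists_le_maximal h0
  obtain ⟨hCA, hCfix⟩ := hCmax.1
  have hCne : C ≠ ⊥ := fun e => ha1 (by
    have := hC0 (Subgroup.mem_zpowers a)
    rwa [e, Subgroup.mem_bot] at this)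
  let ι := Set.range fun g : L => C.map (MulAut.conj g).toMonoidHom
  letI : Fintype ι := Fintype.ofFinite _
  obtain ⟨Q, hQdef⟩ : ∃ Q, Q = Nat.card (fixSubgroup (V := V) C) := ⟨_, rfl⟩
  have hQ2 : 2 ≤ Q := by
    obtain ⟨w, hw, hw0⟩ := (AddSubgroup.bot_or_exists_ne_zero _).resolve_left hCfix
    haveI : Nontrivial (fixSubgroup (V := V) C) :=
      ⟨⟨⟨w, hw⟩, 0, fun e => hw0 (congrArg Subtype.val e)⟩⟩
    rw [hQdef]
    exact Finite.one_lt_card
  have hιA : ∀ i : ι, i.1 ≤ A := by
    rintro ⟨_, g, rfl⟩ _ ⟨c, hc, rfl⟩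
    exact Subgroup.Normal.conj_mem inferInstance c (hCA hc) g
  have hιcard : ∀ i : ι, Nat.card i.1 = Nat.card C := by
    rintro ⟨_, g, rfl⟩
    exact Subgroup.card_map_of_injective (MulAut.conj g).injective
  have hQ : ∀ i : ι, Nat.card (fixSubgroup (V := V) i.1) = Q := by
    rintro ⟨_, g, rfl⟩
    rw [hQdef]
    have hinv : ∀ w : V, w ∈ fixSubgroup (V := V) (C.map (MulAut.conj g).toMonoidHom) →
        g⁻¹ • w ∈ fixSubgroup (V := V) C := fun w hw => mem_fixSubgroup.mpr fun c hc => by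
      have := mem_fixSubgroup.mp hw (g * c * g⁻¹) ⟨c, hc, rfl⟩
      rw [mul_smul, mul_smul] at this
      have := congrArg (g⁻¹ • ·) this
      simpa using this
    let e : fixSubgroup (V := V) C ≃ fixSubgroup (V := V) (C.map (MulAut.conj g).toMonoidHom) :=
      { toFun := fun w => ⟨g • (w : V), smul_mem_fixSubgroup_map w.2⟩
        invFun := fun w => ⟨g⁻¹ • (w : V), hinv w.1 w.2⟩
        left_inv := fun w => Subtype.ext (inv_smul_smul g _)
        right_inv := fun w => Subtype.ext (smul_inv_smul g _) }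
    exact (Nat.card_congr e).symm
  have hkill : ∀ i j : ι, i ≠ j → ∀ w ∈ fixSubgroup (V := V) j.1, avg i.1 w = 0 := by
    intro i j hij w hw
    by_contra hne
    have hsup : i.1 ⊔ j.1 ∈ 𝒞 := by
      refine ⟨sup_le (hιA i) (hιA j), fun e => hne ?_⟩
      have hmem : avg i.1 w ∈ fixSubgroup (V := V) (i.1 ⊔ j.1) := mem_fixSubgroup.mpr fun b hb => by
        have hle : i.1 ⊔ j.1 ≤ stabilizer L (avg i.1 w) :=
          sup_le (fun c hc => avg_fixed i.1 w hc) fun c hc => avg_fixed_by_commuting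
            (mem_fixSubgroup.mp hw c hc) fun d hd => hAc d (hιA i hd) c (hιA j hc)
        exact hle hb
      rwa [e, AddSubgroup.mem_bot] at hmem
    obtain ⟨g, hg⟩ := i.2
    have hmax : i.1 ⊔ j.1 ≤ i.1 := by
      let e := MulAut.conj g⁻¹
      have hmem2 : (i.1 ⊔ j.1).map e.toMonoidHom ∈ 𝒞 := by
        refine ⟨fun b hb => ?_, fun e' => ?_⟩
        · obtain ⟨c, hc, rfl⟩ := hb
          exact Subgroup.Normal.conj_mem inferInstance c (hsup.1 hc) g⁻¹
        · obtain ⟨w', hw', hw0'⟩ := (AddSubgroup.bot_or_exists_ne_zero _).resolve_left hsup.2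
          have := smul_mem_fixSubgroup_map (g := g⁻¹) hw'
          rw [e', AddSubgroup.mem_bot] at this
          exact hw0' ((smul_eq_zero_iff_eq _).mp this)
      have hle : C ≤ (i.1 ⊔ j.1).map e.toMonoidHom := fun c hc => by
        refine ⟨g * c * g⁻¹, (le_sup_left : i.1 ≤ _) (hg ▸ ⟨c, hc, rfl⟩), ?_⟩
        change g⁻¹ * (g * c * g⁻¹) * g⁻¹⁻¹ = c
        group
      intro b hb
      have := hCmax.2 hmem2 hle (Subgroup.mem_map_of_mem _ hb)
      rw [← hg]
      refine ⟨g⁻¹ * b * g⁻¹⁻¹, this, ?_⟩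
      change g * (g⁻¹ * b * g⁻¹⁻¹) * g⁻¹ = b
      group
    refine hij (Subtype.ext ?_).symm
    exact Subgroup.eq_of_le_of_card_ge (le_sup_right.trans hmax) (by rw [hιcard, hιcard])
  have hpow := pow_card_le h.char h.cop (fun i : ι => i.1) (fun i => fixSubgroup i.1) hQ
    (fun i w hw b hb => mem_fixSubgroup.mp hw b hb) hkill
  have hm : 2 ≤ Fintype.card ι := by
    by_contra hlt
    have hsub : Subsingleton ι := Fintype.card_le_one_iff_subsingleton.mp (by omega)
    haveI : C.Normal := ⟨fun c hc g => by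
      have e : C.map (MulAut.conj g).toMonoidHom = C.map (MulAut.conj (1 : L)).toMonoidHom :=
        congrArg Subtype.val (Subsingleton.elim (⟨_, g, rfl⟩ : ι) ⟨_, 1, rfl⟩)
      have := Subgroup.mem_map_of_mem (MulAut.conj g).toMonoidHom hc
      rw [e] at this
      obtain ⟨d, hd, hde⟩ := this
      have : d = g * c * g⁻¹ := by simpa using hde
      exact this ▸ hd⟩
    obtain ⟨w, hw, hw0⟩ := (AddSubgroup.bot_or_exists_ne_zero _).resolve_left hCfix
    exact hw0 (h.fix_eq_zero C hCne fun c hc => mem_fixSubgroup.mp hw c hc)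
  obtain ⟨w, hw, hw0⟩ := (AddSubgroup.bot_or_exists_ne_zero _).resolve_left hCfix
  have hWne : W ≠ ⊥ := fun e => ha1 (by
    have := hAW ha
    rwa [e, Subgroup.mem_bot] at this)
  let X : Finset V := (Finset.univ : Finset ι).biUnion fun i =>
    ((fixSubgroup (V := V) i.1 : Set V) \ {0}).toFinite.toFinset
  have hX : ∀ g : L, g • w ∈ (X : Set V) := fun g => by
    rw [Finset.mem_coe, Finset.mem_biUnion]
    refine ⟨⟨_, g, rfl⟩, Finset.mem_univ _, ?_⟩
    rw [Set.Finite.mem_toFinset]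
    exact ⟨smul_mem_fixSubgroup_map hw, fun e => hw0 ((smul_eq_zero_iff_eq g).mp e)⟩
  have h2 := index_mul_orbit_le (W := W) W le_rfl w (stabilizer_le_of_fpf h.fpf hw0) X hX
    (Finset.finite_toSet X)
  rw [Set.ncard_coe_finset] at h2
  have hXle : X.card ≤ Fintype.card ι * (Q - 1) := by
    refine (Finset.card_biUnion_le).trans ?_
    refine le_of_eq ?_
    rw [Finset.sum_congr rfl fun i _ => ?_, Finset.sum_const, Finset.card_univ, smul_eq_mul]
    rw [← Set.ncard_eq_toFinset_card]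
    have := ncard_diff_zero (fixSubgroup (V := V) i.1)
    rw [hQ i] at this
    omega
  refine h.neg (sq_le_of_two_mul_le hm hQ2 ?_ hpow)
  calc 2 * W.index = W.index * 2 := mul_comm _ _
    _ ≤ W.index * (orbit W w).ncard := Nat.mul_le_mul le_rfl (orbit_two_le h hWne hw0)
    _ ≤ _ := h2.trans hXle

/-- Normal abelian subgroups inside `W` have no two independent elements of prime order. -/
theorem Hyp.no_pair (h : Hyp W V r) (A : Subgroup L) [A.Normal] (hAW : A ≤ W)
    (hAc : ∀ a ∈ A, ∀ b ∈ A, Commute a b) {s : ℕ} [Fact s.Prime] {x y : L} (hx : x ∈ A)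
    (hy : y ∈ A) (hxs : x ^ s = 1) (hys : y ^ s = 1) (hy1 : y ≠ 1)
    (hxy : x ∉ Subgroup.zpowers y) [Nontrivial V] : False := by
  obtain ⟨v, hv⟩ := exists_ne (0 : V)
  have hs : s.Coprime r := h.cop.coprime_dvd_left
    (orderOf_eq_prime hys hy1 ▸ orderOf_dvd_natCard y)
  rcases exists_fixed_of_noncyclic h.char hs (hAc x hx y hy) hxs hys hv with
    ⟨j, -, w, hw0, hw⟩ | ⟨w, hw0, hw⟩
  · refine h.abelian_fpf A hAW hAc (mul_mem hx (pow_mem hy j)) (fun e => hxy ?_) hw0 hw
    rw [eq_inv_of_mul_eq_one_left e]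
    exact inv_mem (pow_mem (Subgroup.mem_zpowers y) j)
  · exact h.abelian_fpf A hAW hAc hy hy1 hw0 hw

/-- A normal abelian `s`-subgroup inside `W` is cyclic. -/
theorem Hyp.isCyclic_normal (h : Hyp W V r) (A : Subgroup L) [A.Normal] (hAW : A ≤ W)
    (hAc : ∀ a ∈ A, ∀ b ∈ A, Commute a b) {s : ℕ} [Fact s.Prime] (hA : IsPGroup s A)
    [Nontrivial V] : IsCyclic A := by
  letI := Fintype.ofFinite A
  have hsmall : ∀ i : ℕ, (Finset.univ.filter fun x : A => x ^ s ^ i = 1).card ≤ s ^ i := by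
    intro i
    induction i with
    | zero =>
      rw [pow_zero]
      refine Finset.card_le_one.mpr fun x hx y hy => ?_
      simp only [Finset.mem_filter, pow_one] at hx hy
      rw [hx.2, hy.2]
    | succ i ih =>
      refine (Finset.card_le_mul_card_image (f := fun x : A => x ^ s)
        (Finset.univ.filter fun x : A => x ^ s ^ (i + 1) = 1) s ?_).trans ?_
      · intro b hb
        obtain ⟨x₀, hx₀, rfl⟩ := Finset.mem_image.mp hb
        by_contra hgt
        push Not at hgt
        obtain ⟨x, hx, hne⟩ : ∃ x ∈ (Finset.univ.filter fun x : A => x ^ s ^ (i + 1) = 1).filter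
            (fun x : A => x ^ s = x₀ ^ s), x ≠ x₀ :=
          Finset.exists_mem_ne (lt_of_le_of_lt (Fact.out : s.Prime).one_lt.le hgt) x₀
        let y := x * x₀⁻¹
        have hcomm : ∀ p q : A, Commute p q := fun p q => Subtype.ext (hAc p p.2 q q.2).eq
        have hys : (y : L) ^ s = 1 := by
          rw [← Subgroup.coe_pow, (hcomm x x₀⁻¹).mul_pow, (Finset.mem_filter.mp hx).2, inv_pow,
            mul_inv_cancel, Subgroup.coe_one]
        have hy1 : (y : L) ≠ 1 := fun e => hne (mul_inv_eq_one.mp (Subtype.ext e))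
        have hall : ∀ x' ∈ (Finset.univ.filter fun x : A => x ^ s ^ (i + 1) = 1).filter
            (fun x : A => x ^ s = x₀ ^ s), ∃ j ∈ Finset.range s, y ^ j * x₀ = x' := by
          intro x' hx'
          have hmem : ((x' * x₀⁻¹ : A) : L) ∈ Subgroup.zpowers (y : L) := by
            by_contra hn
            refine h.no_pair A hAW hAc (x' * x₀⁻¹ : A).2 y.2 ?_ hys hy1 hn
            rw [← Subgroup.coe_pow, (hcomm x' x₀⁻¹).mul_pow, (Finset.mem_filter.mp hx').2, inv_pow,
              mul_inv_cancel, Subgroup.coe_one]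
          have hfin : IsOfFinOrder (y : L) := isOfFinOrder_of_finite _
          rw [← hfin.mem_powers_iff_mem_zpowers, Submonoid.mem_powers_iff] at hmem
          obtain ⟨j, hj⟩ := hmem
          refine ⟨j % s, Finset.mem_range.mpr (Nat.mod_lt _ (Fact.out : s.Prime).pos), ?_⟩
          have e : y ^ (j % s) = x' * x₀⁻¹ := Subtype.ext (by
            rw [Subgroup.coe_pow, ← pow_eq_pow_mod j hys, hj])
          rw [e, inv_mul_cancel_right]
        have := Finset.card_le_card (show (Finset.univ.filter fun x : A => x ^ s ^ (i + 1) = 1).filter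
            (fun x : A => x ^ s = x₀ ^ s) ⊆ (Finset.range s).image (fun j => y ^ j * x₀) from
          fun x' hx' => Finset.mem_image.mpr (hall x' hx'))
        exact absurd ((this.trans Finset.card_image_le).trans (Finset.card_range s).le) (by omega)
      · rw [pow_succ']
        refine Nat.mul_le_mul le_rfl (le_trans (Finset.card_le_card ?_) ih)
        intro b hb
        obtain ⟨x, hx, rfl⟩ := Finset.mem_image.mp hb
        simp only [Finset.mem_filter, Finset.mem_univ, true_and] at hx ⊢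
        rw [← pow_mul]; exact hx
  refine isCyclic_of_card_pow_eq_one_le fun n hn => ?_
  obtain ⟨e, he⟩ := IsPGroup.iff_card.mp hA
  obtain ⟨i, -, hi⟩ := (Nat.dvd_prime_pow Fact.out).mp
    (Nat.gcd_dvd_right n (s ^ e))
  refine le_trans (Finset.card_le_card ?_) ((hsmall i).trans
    (hi ▸ Nat.le_of_dvd hn (Nat.gcd_dvd_left _ _)))
  intro x hx
  simp only [Finset.mem_filter, Finset.mem_univ, true_and] at hx ⊢
  rw [← hi]
  refine pow_gcd_eq_one.mpr ⟨hx, ?_⟩
  rw [← he]
  exact pow_card_eq_one'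

end Cfsg.Agent.DerangeIdx
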