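import Cfsg.Agent.DerangeIdx.Sylow

/-!
# The regular Sylow subgroup is a CC subgroup
-/

set_option autoImplicit false
set_option linter.unusedSectionVars false
set_option linter.style.haveILetI false

namespace Cfsg.Agent.DerangeIdx

open MulAction
open scoped Classical

/-- A self-normalizing abelian Sylow subgroup in a transitive faithful group of prime power
degree is the whole group. -/
theorem eq_top_of_normalizer_le {C Ω : Type*} [Group C] [Finite C] [MulAction C Ω] [Finite Ω]
    [FaithfulSMul C Ω] [IsPretransitive C Ω] {r a : ℕ} [Fact r.Prime]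
    (hn : Nat.card Ω = r ^ a) (P : Sylow r C)
    (hP : Subgroup.normalizer ((P : Subgroup C) : Set C) ≤ (P : Subgroup C))
    (hcomm : ∀ u ∈ (P : Subgroup C), ∀ v ∈ (P : Subgroup C), Commute u v) :
    (P : Subgroup C) = ⊤ := by
  have hle : Subgroup.normalizer (P : Set C) ≤ Subgroup.centralizer (P : Set C) :=
    fun g hg v hv => (hcomm g (hP hg) v hv).symm.eq
  have hO := MonoidHom.ker_transferSylow_isComplement' P hle
  set O := (MonoidHom.transferSylow P hle).ker with hOdef
  have hbot : O = ⊥ := by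
    refine (Subgroup.eq_bot_iff_forall _).mpr fun o ho =>
      FaithfulSMul.eq_of_smul_eq_smul (α := Ω) fun z => ?_
    rw [one_smul]
    haveI : O.Normal := MonoidHom.normal_ker _
    have hblk : IsBlock C (orbit O z) := IsBlock.orbit_of_normal (G := C) (N := O) z
    have hd := hblk.ncard_dvd_card ⟨z, mem_orbit_self z⟩
    rw [hn] at hd
    have hd2 : (orbit O z).ncard ∣ Nat.card O := by
      rw [← index_stabilizer]
      exact Subgroup.index_dvd_card _
    have hcop : Nat.Coprime (Nat.card O) (r ^ a) :=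
      Nat.Coprime.pow_right a ((Fact.out : r.Prime).coprime_iff_not_dvd.mpr
        (MonoidHom.not_dvd_card_ker_transferSylow P hle)).symm
    have h1 := Nat.eq_one_of_dvd_coprimes hcop hd2 hd
    obtain ⟨w, hw⟩ := Set.ncard_eq_one.mp h1
    have e1 : (⟨o, ho⟩ : O) • z ∈ orbit O z := mem_orbit _ _
    have e2 : z ∈ orbit O z := mem_orbit_self z
    rw [hw, Set.mem_singleton_iff] at e1 e2
    exact e1.trans e2.symm
  have := hO.sup_eq_top
  rwa [hbot, bot_sup_eq] at this

variable {G Ω : Type*} [Group G] [Finite G] [MulAction G Ω] [Finite Ω] [IsPretransitive G Ω]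
  [FaithfulSMul G Ω] {D : Subgroup G} [D.Normal] {r : ℕ}

/-- The complement in the normalizer of the regular subgroup. -/
abbrev RegSylow.compl (RS : RegSylow D Ω r) (x : Ω) : Subgroup G :=
  Subgroup.normalizer (RS.R : Set G) ⊓ stabilizer G x

theorem RegSylow.exists_mem (RS : RegSylow D Ω r) (x z : Ω) : ∃ u ∈ RS.R, u • x = z := by
  haveI := RS.trans
  obtain ⟨u, hu⟩ := exists_smul_eq RS.R x z
  exact ⟨u, u.2, hu⟩

theorem RegSylow.eq_of_smul (RS : RegSylow D Ω r) {x : Ω} {u v : G} (hu : u ∈ RS.R)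
    (hv : v ∈ RS.R) (e : u • x = v • x) : u = v := by
  refine (inv_mul_eq_one.mp (RS.free _ (mul_mem (inv_mem hv) hu) x ?_)).symm
  rw [mul_smul, e, inv_smul_smul]

theorem RegSylow.normalizer_decomp (RS : RegSylow D Ω r) (x : Ω) {g : G}
    (hg : g ∈ Subgroup.normalizer (RS.R : Set G)) :
    ∃ u ∈ RS.R, u⁻¹ * g ∈ RS.compl x := by
  obtain ⟨u, hu, hux⟩ := RS.exists_mem x (g • x)
  refine ⟨u, hu, Subgroup.mem_inf.mpr ⟨mul_mem (inv_mem (Subgroup.le_normalizer hu)) hg, ?_⟩⟩
  rw [mem_stabilizer_iff, mul_smul, ← hux, inv_smul_smul]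

theorem RegSylow.compl_sup (RS : RegSylow D Ω r) (x : Ω) : RS.compl x ⊔ D = ⊤ := by
  refine eq_top_iff.mpr (RS.cover.ge.trans (sup_le (fun g hg => ?_) le_sup_right))
  obtain ⟨u, hu, hl⟩ := RS.normalizer_decomp x hg
  have e : g = u * (u⁻¹ * g) := by group
  rw [e]
  exact mul_mem ((le_sup_right : D ≤ _) (RS.le hu)) ((le_sup_left : RS.compl x ≤ _) hl)

theorem RegSylow.card_eq (RS : RegSylow D Ω r) (x : Ω) : Nat.card RS.R = Nat.card Ω :=
  Nat.card_congr (Equiv.ofBijective (fun u : RS.R => (u : G) • x)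
    ⟨fun u v e => Subtype.ext (RS.eq_of_smul u.2 v.2 e), fun z => by
      obtain ⟨u, hu, hz⟩ := RS.exists_mem x z
      exact ⟨⟨u, hu⟩, hz⟩⟩)

/-- The action of a subgroup of the normalizer by conjugation. -/
@[implicit_reducible]
noncomputable def conjAction (R H : Subgroup G) (hH : H ≤ Subgroup.normalizer (R : Set G))
    (hc : IsMulCommutative R) :
    letI : CommGroup R := { (inferInstance : Group R) with mul_comm := hc.is_comm.comm }
    DistribMulAction H (Additive R) :=
  letI : CommGroup R := { (inferInstance : Group R) with mul_comm := hc.is_comm.comm }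
  { smul := fun g u => Additive.ofMul ⟨(g : G) * ((Additive.toMul u : R) : G) * (g : G)⁻¹,
      (Subgroup.mem_normalizer_iff.mp (hH g.2) _).mp (Additive.toMul u : R).2⟩
    one_smul := fun u => by
      refine Additive.toMul.injective (Subtype.ext ?_)
      change ((1 : H) : G) * _ * ((1 : H) : G)⁻¹ = _
      simp
    mul_smul := fun g h u => by
      refine Additive.toMul.injective (Subtype.ext ?_)
      change ((g * h : H) : G) * _ * ((g * h : H) : G)⁻¹ =
        (g : G) * ((h : G) * _ * (h : G)⁻¹) * (g : G)⁻¹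
      rw [Subgroup.coe_mul]
      group
    smul_zero := fun g => by
      refine Additive.toMul.injective (Subtype.ext ?_)
      change (g : G) * ((1 : R) : G) * (g : G)⁻¹ = ((1 : R) : G)
      simp
    smul_add := fun g u v => by
      refine Additive.toMul.injective (Subtype.ext ?_)
      change (g : G) * ((Additive.toMul u * Additive.toMul v : R) : G) * (g : G)⁻¹ =
        ((g : G) * ((Additive.toMul u : R) : G) * (g : G)⁻¹) *
          ((g : G) * ((Additive.toMul v : R) : G) * (g : G)⁻¹)
      rw [Subgroup.coe_mul]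
      group }

/-- The complement is fixed-point-free outside `D`. -/
theorem RegSylow.fpf_outside (RS : RegSylow D Ω r) (h : Ext D Ω) {x : Ω} {g : G}
    (hg : g ∈ RS.compl x) (hgD : g ∉ D) {u : G} (hu : u ∈ RS.R) (hgu : Commute g u) : u = 1 := by
  haveI : Nonempty Ω := ⟨x⟩
  refine RS.free u hu x (h.transitive.2 g hgD _ _ ?_ hg.2)
  rw [← mul_smul, hgu.eq, mul_smul, show g • x = x from hg.2]

/-- The centralizer of a non-trivial element of the regular subgroup. -/
theorem RegSylow.centralizer_le (RS : RegSylow D Ω r) (h : Ext D Ω) {a : ℕ} [Fact r.Prime]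
    (hn : Nat.card Ω = r ^ a) {x : Ω}
    (hsemi : ∀ g ∈ RS.compl x, ∀ u ∈ RS.R, Commute g u → u ≠ 1 → g = 1)
    {u : G} (hu : u ∈ RS.R) (hu1 : u ≠ 1) : Subgroup.centralizer ({u} : Set G) ≤ RS.R := by
  haveI : Nonempty Ω := ⟨x⟩
  set C := Subgroup.centralizer ({u} : Set G) with hC
  have hcomm : ∀ g ∈ C, Commute g u := fun g hg =>
    (Subgroup.mem_centralizer_iff.mp hg u rfl).symm
  have hCD : C ≤ D := fun g hg => by
    by_contra hgD
    obtain ⟨z, hz⟩ := h g hgD
    refine hu1 (RS.free u hu z (h.transitive.2 g hgD _ _ ?_ hz))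
    rw [← mul_smul, (hcomm g hg).eq, mul_smul, hz]
  have hRC : RS.R ≤ C := fun v hv => Subgroup.mem_centralizer_iff.mpr (by
    rintro w rfl
    exact (RS.comm w hu v hv).eq)
  haveI : IsPretransitive C Ω := ⟨fun p q => by
    obtain ⟨v, hv, hvq⟩ := RS.exists_mem p q
    exact ⟨⟨v, hRC hv⟩, hvq⟩⟩
  haveI : FaithfulSMul C Ω := ⟨fun {g₁ g₂} e => Subtype.ext (FaithfulSMul.eq_of_smul_eq_smul
    (α := Ω) (m₁ := (g₁ : G)) (m₂ := (g₂ : G)) e)⟩
  let Q : Subgroup C := RS.R.subgroupOf C
  have hQ : IsPGroup r Q := IsPGroup.of_card (n := a) (by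
    rw [Nat.card_congr (Subgroup.subgroupOfEquivOfLe hRC).toEquiv, RS.card_eq x, hn])
  have hndvd : ¬ r ∣ Q.index := fun hd => by
    have h1 : Q.index ∣ RS.R.relIndex D :=
      Dvd.intro _ (Subgroup.relIndex_mul_relIndex RS.R C D hRC hCD)
    have h2 : RS.R.relIndex D = Nat.card (stabilizer D x) := by
      have e1 := card_stab_mul h x
      rw [← RS.card_eq x] at e1
      have e2 : Nat.card RS.R * RS.R.relIndex D = Nat.card D := by
        rw [Subgroup.relIndex, ← Nat.card_congr (Subgroup.subgroupOfEquivOfLe RS.le).toEquiv]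
        exact (RS.R.subgroupOf D).card_mul_index
      rw [← e1, mul_comm] at e2
      exact Nat.eq_of_mul_eq_mul_right Nat.card_pos e2
    exact (Fact.out : r.Prime).coprime_iff_not_dvd.mp (RS.coprime x).symm
      (h2 ▸ hd.trans h1)
  have htop := eq_top_of_normalizer_le hn (hQ.toSylow hndvd) ?_ ?_
  · rw [IsPGroup.toSylow_coe] at htop
    intro g hg
    have : (⟨g, hg⟩ : C) ∈ Q := htop ▸ Subgroup.mem_top _
    exact this
  · rw [IsPGroup.toSylow_coe]
    intro g hg
    have hgN : (g : G) ∈ Subgroup.normalizer (RS.R : Set G) := by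
      rw [Subgroup.mem_normalizer_iff]
      intro v
      constructor
      · intro hv
        exact (Subgroup.mem_normalizer_iff.mp hg ⟨v, hRC hv⟩).mp hv
      · intro hv
        have hmem := (Subgroup.mem_normalizer_iff.mp hg
          ((g : C)⁻¹ * ⟨_, hRC hv⟩ * g)).mpr (by
            change (g : G) * ((g : G)⁻¹ * ((g : G) * v * (g : G)⁻¹) * g) * (g : G)⁻¹ ∈ RS.R
            simpa [mul_assoc] using hv)
        change (g : G)⁻¹ * ((g : G) * v * (g : G)⁻¹) * g ∈ RS.R at hmem
        simpa [mul_assoc] using hmem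
    obtain ⟨v, hv, hl⟩ := RS.normalizer_decomp x hgN
    have h1 : v⁻¹ * (g : G) = 1 := hsemi _ hl u hu
      ((RS.comm v hv u hu).inv_left.mul_left (hcomm g g.2)) hu1
    change (g : G) ∈ RS.R
    rwa [← inv_mul_eq_one.mp h1]
  · rw [IsPGroup.toSylow_coe]
    intro p hp q hq
    exact Subtype.ext (RS.comm p hp q hq).eq

/-- The order of a semiregular complement divides `n - 1`. -/
theorem RegSylow.card_compl_dvd (RS : RegSylow D Ω r) {x : Ω}
    (hsemi : ∀ g ∈ RS.compl x, ∀ u ∈ RS.R, Commute g u → u ≠ 1 → g = 1) :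
    Nat.card (RS.compl x) ∣ Nat.card Ω - 1 := by
  let Y := {u : RS.R // u ≠ 1}
  letI : MulAction (RS.compl x) Y :=
    { smul := fun g u => ⟨⟨(g : G) * ((u : RS.R) : G) * (g : G)⁻¹,
        (Subgroup.mem_normalizer_iff.mp g.2.1 _).mp u.1.2⟩, fun e => u.2 (Subtype.ext (by
          have e' : (g : G) * ((u : RS.R) : G) * (g : G)⁻¹ = 1 := congrArg Subtype.val e
          simpa using e'))⟩
      one_smul := fun u => by
        refine Subtype.ext (Subtype.ext ?_)
        change ((1 : RS.compl x) : G) * _ * ((1 : RS.compl x) : G)⁻¹ = _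
        simp
      mul_smul := fun g h u => by
        refine Subtype.ext (Subtype.ext ?_)
        change ((g * h : RS.compl x) : G) * _ * ((g * h : RS.compl x) : G)⁻¹ =
          (g : G) * ((h : G) * _ * (h : G)⁻¹) * (g : G)⁻¹
        rw [Subgroup.coe_mul]
        group }
  have hstab : ∀ u : Y, stabilizer (RS.compl x) u = ⊥ := fun u => by
    refine (Subgroup.eq_bot_iff_forall _).mpr fun g hg => Subtype.ext ?_
    have e : (g : G) * ((u : RS.R) : G) * (g : G)⁻¹ = ((u : RS.R) : G) :=
      congrArg (fun w : Y => ((w : RS.R) : G)) hg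
    exact hsemi _ g.2 _ u.1.2 (mul_inv_eq_iff_eq_mul.mp e) fun e' => u.2 (Subtype.ext e')
  have hY : Nat.card Y = Nat.card Ω - 1 := by
    letI := Fintype.ofFinite RS.R
    rw [← RS.card_eq x, Nat.card_eq_fintype_card, Nat.card_eq_fintype_card,
      Fintype.card_subtype_compl, Fintype.card_subtype_eq]
  rw [← hY]
  letI : Fintype (Quotient (orbitRel (RS.compl x) Y)) := Fintype.ofFinite _
  rw [Nat.card_congr (selfEquivSigmaOrbits (RS.compl x) Y), Nat.card_sigma]
  refine Finset.dvd_sum fun q _ => ?_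
  rw [Nat.card_coe_set_eq, ← index_stabilizer, hstab, Subgroup.index_bot]

end Cfsg.Agent.DerangeIdx
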