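import Mathlib

/-!
# Linear groups with a normal subgroup outside which there are no fixed vectors: tools
-/

set_option autoImplicit false
set_option linter.unusedSectionVars false
set_option linter.style.haveILetI false

namespace Cfsg.Agent.DerangeIdx

open MulAction Finset
open scoped Classical

variable {L V : Type*} [Group L] [Finite L] [AddCommGroup V] [Finite V] [DistribMulAction L V]

/-- Elements outside `W` fix no non-zero vector. -/
def Fpf (W : Subgroup L) (V : Type*) [AddCommGroup V] [DistribMulAction L V] : Prop :=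
  ∀ h : L, h ∉ W → ∀ v : V, h • v = v → v = 0

/-- The fixed vectors of an element. -/
def fixAdd (a : L) : AddSubgroup V where
  carrier := {v | a • v = v}
  zero_mem' := smul_zero a
  add_mem' := fun {u v} hu hv => by
    change a • (u + v) = u + v
    rw [smul_add, show a • u = u from hu, show a • v = v from hv]
  neg_mem' := fun {u} hu => by
    change a • (-u) = -u
    rw [smul_neg, show a • u = u from hu]

theorem mem_fixAdd {a : L} {v : V} : v ∈ fixAdd (V := V) a ↔ a • v = v := Iff.rfl

/-- The vectors fixed by a subgroup. -/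
def fixSubgroup (A : Subgroup L) : AddSubgroup V := ⨅ a : A, fixAdd (a : L)

theorem mem_fixSubgroup {A : Subgroup L} {v : V} :
    v ∈ fixSubgroup (V := V) A ↔ ∀ a ∈ A, a • v = v := by
  simp [fixSubgroup, AddSubgroup.mem_iInf, mem_fixAdd]

theorem smul_mem_fixSubgroup_map {A : Subgroup L} {g : L} {v : V}
    (hv : v ∈ fixSubgroup (V := V) A) :
    g • v ∈ fixSubgroup (V := V) (A.map (MulAut.conj g).toMonoidHom) := by
  rw [mem_fixSubgroup] at hv ⊢
  rintro _ ⟨a, ha, rfl⟩
  change (g * a * g⁻¹) • g • v = g • v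
  rw [← mul_smul, inv_mul_cancel_right, mul_smul, hv a ha]

theorem smul_mem_fixSubgroup_of_normal {A : Subgroup L} [hA : A.Normal] (g : L) {v : V}
    (hv : v ∈ fixSubgroup (V := V) A) : g • v ∈ fixSubgroup (V := V) A := by
  rw [mem_fixSubgroup] at hv ⊢
  intro a ha
  have h1 := hv _ (hA.conj_mem a ha g⁻¹)
  rw [mul_smul, mul_smul, inv_inv] at h1
  exact inv_smul_eq_iff.mp h1

section Bound

variable {W : Subgroup L} [W.Normal]

/-- An orbit of length at least `index * d` when the stabilizer lies in `W`. -/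
theorem index_mul_orbit_le {Y : Type*} [MulAction L Y] (T : Subgroup L) (hTW : T ≤ W) (y : Y)
    (hst : stabilizer L y ≤ W) (X : Set Y) (hX : ∀ g : L, g • y ∈ X) (hfin : X.Finite) :
    W.index * (orbit T y).ncard ≤ X.ncard := by
  have h1 : (stabilizer L y).index ≤ X.ncard := by
    rw [index_stabilizer]
    exact Set.ncard_le_ncard (by rintro _ ⟨g, rfl⟩; exact hX g) hfin
  refine le_trans ?_ h1
  rw [← index_stabilizer, ← Subgroup.relIndex_mul_index hst, mul_comm]
  refine Nat.mul_le_mul ?_ le_rfl
  have e : stabilizer T y = (stabilizer L y).subgroupOf T := by ext t; exact Iff.rfl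
  rw [e]
  exact Nat.le_of_dvd (Nat.pos_of_ne_zero Subgroup.index_ne_zero_of_finite)
    (dvd_of_eq (rfl : ((stabilizer L y).subgroupOf T).index = (stabilizer L y).relIndex T) |>.trans
      (dvd_refl _)) |>.trans (Subgroup.relIndex_le_of_le_right hTW Subgroup.index_ne_zero_of_finite)

theorem stabilizer_le_of_fpf (hf : Fpf W V) {v : V} (hv : v ≠ 0) : stabilizer L v ≤ W :=
  fun g hg => by
    by_contra hgW
    exact hv (hf g hgW v hg)

theorem ncard_diff_zero (U : AddSubgroup V) : ((U : Set V) \ {0}).ncard + 1 = Nat.card U := by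
  rw [Set.ncard_diff_singleton_add_one U.zero_mem]
  exact (Nat.card_coe_set_eq _).symm

/-- An invariant proper subgroup bounds the index. -/
theorem sq_le_of_invariant (hf : Fpf W V) (U : AddSubgroup V) (hU : ∀ g : L, ∀ v ∈ U, g • v ∈ U)
    (hne : U ≠ ⊥) (htop : U ≠ ⊤) : (W.index + 1) ^ 2 ≤ Nat.card V := by
  obtain ⟨u, hu, hu0⟩ := (AddSubgroup.bot_or_exists_ne_zero U).resolve_left hne
  have h1 : W.index + 1 ≤ Nat.card U := by
    rw [← ncard_diff_zero U]
    have := index_mul_orbit_le (W := W) ⊥ bot_le u (stabilizer_le_of_fpf hf hu0)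
      ((U : Set V) \ {0}) (fun g => ⟨hU g u hu, fun e => hu0 ((smul_eq_zero_iff_eq g).mp e)⟩)
      (Set.toFinite _)
    have horb : 1 ≤ (orbit (⊥ : Subgroup L) u).ncard :=
      Nat.one_le_iff_ne_zero.mpr (Set.ncard_ne_zero_of_mem (mem_orbit_self u) (Set.toFinite _))
    have := Nat.le_mul_of_pos_right W.index horb
    omega
  have h2 : W.index + 1 ≤ U.index := by
    obtain ⟨v, hv⟩ : ∃ v, v ∉ U := by
      by_contra h
      push Not at h
      exact htop (eq_top_iff.mpr fun v _ => h v)
    let Sv : Subgroup L :=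
      { carrier := {g | g • v - v ∈ U}
        one_mem' := by simp
        mul_mem' := fun {g h} hg hh => by
          change (g * h) • v - v ∈ U
          have e : (g * h) • v - v = g • (h • v - v) + (g • v - v) := by
            rw [mul_smul, smul_sub]; abel
          rw [e]
          exact U.add_mem (hU g _ hh) hg
        inv_mem' := fun {g} hg => by
          change g⁻¹ • v - v ∈ U
          have e : g⁻¹ • v - v = -(g⁻¹ • (g • v - v)) := by
            rw [smul_sub, inv_smul_smul]; abel
          rw [e]
          exact U.neg_mem (hU g⁻¹ _ hg) }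
    have hle : Sv ≤ W := fun g hg => by
      by_contra hgW
      have hinj : Function.Injective (fun w : U => (⟨g • (w : V) - w, U.sub_mem (hU g _ w.2) w.2⟩ : U)) :=
        fun a b e => by
          have e' : g • (a : V) - a = g • (b : V) - b := congrArg Subtype.val e
          refine Subtype.ext (sub_eq_zero.mp (hf g hgW _ ?_))
          rw [smul_sub]
          rw [sub_eq_sub_iff_sub_eq_sub] at e'
          exact e'
      obtain ⟨w, hw⟩ := Finite.surjective_of_injective hinj ⟨g • v - v, hg⟩
      have hw' : g • (w : V) - w = g • v - v := congrArg Subtype.val hw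
      have h0 : v - w = 0 := hf g hgW _ (by
        rw [smul_sub]
        rw [sub_eq_sub_iff_sub_eq_sub] at hw'
        rw [← neg_sub (g • (w : V)), ← neg_sub (w : V), hw'])
      exact hv (by rw [sub_eq_zero.mp h0]; exact w.2)
    let f : L ⧸ Sv → {q : V ⧸ U // q ≠ 0} := fun q =>
      Quotient.liftOn' q (fun g => ⟨((g • v : V) : V ⧸ U), fun e => by
          rw [QuotientAddGroup.eq_zero_iff] at e
          exact hv (by simpa using hU g⁻¹ _ e)⟩)
        (fun a b hab => Subtype.ext (by
          rw [QuotientGroup.leftRel_apply] at hab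
          change ((a • v : V) : V ⧸ U) = ((b • v : V) : V ⧸ U)
          rw [QuotientAddGroup.eq]
          have e : -(a • v) + b • v = a • ((a⁻¹ * b) • v - v) := by
            rw [smul_sub, ← mul_smul, mul_inv_cancel_left]; abel
          rw [e]
          exact hU a _ hab))
    have hf' : Function.Injective f := by
      intro p q
      induction p using Quotient.inductionOn' with
      | h a =>
      induction q using Quotient.inductionOn' with
      | h b =>
        intro e
        have e' : ((a • v : V) : V ⧸ U) = ((b • v : V) : V ⧸ U) := congrArg Subtype.val e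
        rw [QuotientAddGroup.eq] at e'
        rw [Quotient.eq'', QuotientGroup.leftRel_apply]
        change (a⁻¹ * b) • v - v ∈ U
        have e2 : (a⁻¹ * b) • v - v = a⁻¹ • (-(a • v) + b • v) := by
          rw [mul_smul, smul_add, smul_neg, inv_smul_smul]; abel
        rw [e2]
        exact hU _ _ e'
    have h3 : W.index ≤ Nat.card {q : V ⧸ U // q ≠ 0} :=
      (Nat.le_of_dvd (Nat.pos_of_ne_zero Subgroup.index_ne_zero_of_finite)
        (Subgroup.index_dvd_of_le hle)).trans (Nat.card_le_card_of_injective f hf')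
    have h4 : Nat.card {q : V ⧸ U // q ≠ 0} + 1 = U.index := by
      letI := Fintype.ofFinite (V ⧸ U)
      rw [AddSubgroup.index, Nat.card_eq_fintype_card, Nat.card_eq_fintype_card,
        Fintype.card_subtype_compl, Fintype.card_subtype_eq]
      exact Nat.sub_add_cancel Fintype.card_pos
    omega
  calc (W.index + 1) ^ 2 = (W.index + 1) * (W.index + 1) := sq _
    _ ≤ Nat.card U * U.index := Nat.mul_le_mul h1 h2
    _ = Nat.card V := U.card_mul_index

end Bound

section Averages

/-- The sum of the images of a vector over a subgroup. -/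
noncomputable def avg (A : Subgroup L) (v : V) : V :=
  letI := Fintype.ofFinite A
  ∑ a : A, (a : L) • v

theorem avg_fixed (A : Subgroup L) (v : V) {a : L} (ha : a ∈ A) : a • avg A v = avg A v := by
  letI := Fintype.ofFinite A
  rw [avg, Finset.smul_sum]
  simp only [← mul_smul]
  exact Fintype.sum_equiv (Equiv.mulLeft (⟨a, ha⟩ : A)) _ _ fun b => rfl

theorem avg_of_fixed {A : Subgroup L} {v : V} (hv : ∀ a ∈ A, a • v = v) :
    avg A v = Nat.card A • v := by
  letI := Fintype.ofFinite A
  rw [avg, Finset.sum_congr rfl fun a _ => hv _ a.2, Finset.sum_const, Finset.card_univ,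
    Nat.card_eq_fintype_card]

theorem avg_fixed_by_commuting {A : Subgroup L} {v : V} {b : L} (hb : b • v = v)
    (hcomm : ∀ a ∈ A, Commute a b) : b • avg A v = avg A v := by
  letI := Fintype.ofFinite A
  rw [avg, Finset.smul_sum]
  refine Finset.sum_congr rfl fun a _ => ?_
  rw [← mul_smul, ← (hcomm _ a.2).eq, mul_smul, hb]

theorem avg_sum (A : Subgroup L) {ι : Type*} (s : Finset ι) (f : ι → V) :
    avg A (∑ i ∈ s, f i) = ∑ i ∈ s, avg A (f i) := by
  simp only [avg, Finset.smul_sum]
  exact Finset.sum_comm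

theorem nsmul_eq_zero_imp {r : ℕ} (hV : ∀ v : V, r • v = 0) {m : ℕ} (hm : m.Coprime r) {v : V}
    (hv : m • v = 0) : v = 0 :=
  AddMonoid.addOrderOf_eq_one_iff.mp (Nat.dvd_one.mp (hm ▸ Nat.dvd_gcd
    (addOrderOf_dvd_of_nsmul_eq_zero hv) (addOrderOf_dvd_of_nsmul_eq_zero (hV v))))

/-- Subgroups separated by averaging have product of orders at most the order of the space. -/
theorem pow_card_le {r : ℕ} (hV : ∀ v : V, r • v = 0) (hcop : (Nat.card L).Coprime r)
    {ι : Type*} [Fintype ι] (A : ι → Subgroup L) (U : ι → AddSubgroup V) {Q : ℕ}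
    (hQ : ∀ i, Nat.card (U i) = Q) (hfix : ∀ i, ∀ v ∈ U i, ∀ a ∈ A i, a • v = v)
    (hkill : ∀ i j, i ≠ j → ∀ v ∈ U j, avg (A i) v = 0) :
    Q ^ Fintype.card ι ≤ Nat.card V := by
  have hinj : Function.Injective (fun f : (∀ i, U i) => ∑ i, (f i : V)) := by
    intro f g e
    funext i
    have e1 := congrArg (avg (A i)) e
    simp only [avg_sum] at e1
    have red : ∀ f : (∀ i, U i), ∑ j, avg (A i) (f j : V) = Nat.card (A i) • (f i : V) := fun f => by
      rw [Finset.sum_eq_single i (fun j _ hj => hkill i j (Ne.symm hj) _ (f j).2)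
        (fun h => absurd (Finset.mem_univ i) h), avg_of_fixed (hfix i _ (f i).2)]
    rw [red, red, ← sub_eq_zero, ← nsmul_sub] at e1
    exact Subtype.ext (sub_eq_zero.mp (nsmul_eq_zero_imp hV
      (hcop.coprime_dvd_left (Subgroup.card_subgroup_dvd_card _)) e1))
  have h1 := Nat.card_le_card_of_injective _ hinj
  rwa [Nat.card_pi, Finset.prod_congr rfl fun i _ => hQ i, Finset.prod_const, Finset.card_univ] at h1

/-- Two independent commuting elements of prime order: some non-trivial product fixes a vector. -/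
theorem exists_fixed_of_noncyclic {r s : ℕ} [Fact s.Prime] (hV : ∀ v : V, r • v = 0)
    (hs : s.Coprime r) {a b : L} (hab : Commute a b) (ha : a ^ s = 1) (hb : b ^ s = 1)
    {v : V} (hv : v ≠ 0) :
    (∃ j < s, ∃ w : V, w ≠ 0 ∧ (a * b ^ j) • w = w) ∨ ∃ w : V, w ≠ 0 ∧ b • w = w := by
  by_contra hcon
  push Not at hcon
  obtain ⟨h1, h2⟩ := hcon
  have hsum : ∀ x : L, x ^ s = 1 → ∀ w : V, x • (∑ i ∈ range s, x ^ i • w) =
      ∑ i ∈ range s, x ^ i • w := fun x hx w => by
    rw [Finset.smul_sum]
    have e : ∀ i, x • x ^ i • w = x ^ (i + 1) • w := fun i => by rw [← mul_smul, ← pow_succ']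
    simp only [e]
    have h3 := Finset.sum_range_succ (fun i => x ^ i • w) s
    rw [Finset.sum_range_succ', hx, pow_zero] at h3
    exact add_right_cancel h3
  have hz : ∀ j < s, ∀ w : V, ∑ i ∈ range s, (a * b ^ j) ^ i • w = 0 := fun j hj w => by
    by_contra hne
    refine h1 j hj _ hne (hsum _ ?_ w)
    rw [(hab.pow_right j).mul_pow, ha, ← pow_mul, mul_comm j s, pow_mul, hb, one_pow, one_mul]
  have hzb : ∀ w : V, ∑ i ∈ range s, b ^ i • w = 0 := fun w => by
    by_contra hne
    exact h2 _ hne (hsum _ hb w)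
  have htot : ∑ j ∈ range s, ∑ i ∈ range s, (a * b ^ j) ^ i • v = 0 :=
    Finset.sum_eq_zero fun j hj => hz j (Finset.mem_range.mp hj) v
  rw [Finset.sum_comm, ← Finset.sum_erase_add _ _ (Finset.mem_range.mpr (Fact.out : s.Prime).pos)] at htot
  have hrest : ∀ i ∈ (range s).erase 0, ∑ j ∈ range s, (a * b ^ j) ^ i • v = 0 := by
    intro i hi
    rw [Finset.mem_erase, Finset.mem_range] at hi
    have hic : i.Coprime s := ((Fact.out : s.Prime).coprime_iff_not_dvd.mpr fun hd =>
      absurd (Nat.le_of_dvd (Nat.pos_of_ne_zero hi.1) hd) (not_le.mpr hi.2)).symm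
    have e1 : ∀ j, (a * b ^ j) ^ i • v = a ^ i • ((b ^ i) ^ j • v) := fun j => by
      rw [(hab.pow_right j).mul_pow, mul_smul, ← pow_mul, ← pow_mul, mul_comm]
    simp only [e1, ← Finset.smul_sum]
    have e2 : ∑ j ∈ range s, (b ^ i) ^ j • v = 0 := by
      by_contra hne
      have hbi : (b ^ i) ^ s = 1 := by rw [← pow_mul, mul_comm, pow_mul, hb, one_pow]
      have hfix := hsum _ hbi v
      obtain ⟨m, hm⟩ := Nat.exists_mul_mod_eq_one_of_coprime hic (Fact.out : s.Prime).one_lt
      refine h2 _ hne ?_
      have hbim : b = (b ^ i) ^ m := by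
        rw [← pow_mul, pow_eq_pow_mod (i * m) hb, hm.2, pow_one]
      have : ∀ m : ℕ, (b ^ i) ^ m • (∑ j ∈ range s, (b ^ i) ^ j • v) =
          ∑ j ∈ range s, (b ^ i) ^ j • v := fun m => by
        induction m with
        | zero => rw [pow_zero, one_smul]
        | succ m ih => rw [pow_succ, mul_smul, hfix, ih]
      exact (congrArg (fun c : L => c • (∑ j ∈ range s, (b ^ i) ^ j • v)) hbim).trans (this m)
    rw [e2, smul_zero]
  rw [Finset.sum_eq_zero hrest, zero_add] at htot
  simp only [pow_zero, one_smul, Finset.sum_const, Finset.card_range] at htot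
  exact hv (nsmul_eq_zero_imp hV hs htot)

end Averages

end Cfsg.Agent.DerangeIdx
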