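import Mathlib

/-!
# Normal subgroups outside which every element has a fixed point

Counting lemmas for a transitive group with a subgroup `D` such that every element outside `D`
fixes some point.
-/

set_option autoImplicit false
set_option linter.unusedSectionVars false
set_option linter.style.haveILetI false

namespace Cfsg.Agent.DerangeIdx

open MulAction Finset
open scoped Classical

/-- Every element outside `D` fixes a point. -/
def Ext {G : Type*} [Group G] (D : Subgroup G) (X : Type*) [MulAction G X] : Prop :=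
  ∀ g : G, g ∉ D → ∃ x : X, g • x = x

/-- Every element outside `D` fixes at most one point. -/
def Uniq {G : Type*} [Group G] (D : Subgroup G) (X : Type*) [MulAction G X] : Prop :=
  ∀ g : G, g ∉ D → ∀ x y : X, g • x = x → g • y = y → x = y

section Sums

variable {G X : Type*} [Group G] [Finite G] [MulAction G X] [Finite X]

theorem sum_fixed [Fintype G] :
    ∑ g : G, Nat.card (fixedBy X g) =
      Nat.card (Quotient (orbitRel G X)) * Nat.card G := by
  letI := Fintype.ofFinite X
  simp only [Nat.card_eq_fintype_card]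
  exact sum_card_fixedBy_eq_card_orbits_mul_card_group G X

theorem sum_fixed_mem [Fintype G] (D : Subgroup G) :
    ∑ g ∈ Finset.univ.filter (fun g : G => g ∈ D), Nat.card (fixedBy X g) =
      Nat.card (Quotient (orbitRel D X)) * Nat.card D := by
  rw [← sum_fixed (G := D) (X := X)]
  rw [Finset.sum_subtype (p := fun g : G => g ∈ D) _ (fun g => by simp)]
  rfl

theorem card_not_mem [Fintype G] (D : Subgroup G) :
    (Finset.univ.filter (fun g : G => g ∉ D)).card + Nat.card D = Nat.card G := by
  have h1 : (Finset.univ.filter (fun g : G => g ∈ D)).card = Nat.card D := by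
    rw [Nat.card_eq_fintype_card, Fintype.card_subtype]
  rw [← h1, add_comm, Finset.card_filter_add_card_filter_not, Finset.card_univ,
    Nat.card_eq_fintype_card]

/-- The orbit counting for a group in which elements outside `D` fix exactly one point. -/
theorem card_orbits_identity {D : Subgroup G} (h : Ext D X) (hu : Uniq D X) :
    Nat.card (Quotient (orbitRel D X)) + D.index =
      D.index * Nat.card (Quotient (orbitRel G X)) + 1 := by
  letI := Fintype.ofFinite G
  have h1 : ∀ g : G, g ∉ D → Nat.card (fixedBy X g) = 1 := fun g hg => by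
    obtain ⟨x, hx⟩ := h g hg
    rw [Nat.card_eq_one_iff_unique]
    exact ⟨⟨fun a b => Subtype.ext (hu g hg _ _ a.2 b.2)⟩, ⟨⟨x, hx⟩⟩⟩
  have hs := sum_fixed (G := G) (X := X)
  rw [← Finset.sum_filter_add_sum_filter_not Finset.univ (fun g : G => g ∈ D), sum_fixed_mem,
    Finset.sum_congr rfl (fun g hg => h1 g (Finset.mem_filter.mp hg).2), Finset.sum_const,
    smul_eq_mul, mul_one] at hs
  have h2 := card_not_mem D
  have h3 := D.card_mul_index
  have hpos : 0 < Nat.card D := Nat.card_pos
  apply Nat.eq_of_mul_eq_mul_left hpos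
  nlinarith

/-- A transitive group: `D` is transitive and elements outside `D` fix only one point. -/
theorem Ext.transitive [IsPretransitive G X] [Nonempty X] {D : Subgroup G} (h : Ext D X) :
    IsPretransitive D X ∧ Uniq D X := by
  letI := Fintype.ofFinite G
  have hone : Nat.card (Quotient (orbitRel G X)) = 1 := by
    haveI : Subsingleton (Quotient (orbitRel G X)) :=
      (pretransitive_iff_subsingleton_quotient G X).mp inferInstance
    exact Nat.card_eq_one_iff_unique.mpr ⟨inferInstance, ⟨Quotient.mk'' (Classical.arbitrary X)⟩⟩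
  have hs := sum_fixed (G := G) (X := X)
  rw [← Finset.sum_filter_add_sum_filter_not Finset.univ (fun g : G => g ∈ D), sum_fixed_mem,
    hone, one_mul] at hs
  have h2 := card_not_mem D
  have hge : ∀ g ∈ Finset.univ.filter (fun g : G => g ∉ D), 1 ≤ Nat.card (fixedBy X g) :=
    fun g hg => by
      obtain ⟨x, hx⟩ := h g (Finset.mem_filter.mp hg).2
      haveI : Nonempty (fixedBy X g) := ⟨⟨x, hx⟩⟩
      exact Nat.card_pos
  have hle : (Finset.univ.filter (fun g : G => g ∉ D)).card ≤
      ∑ g ∈ Finset.univ.filter (fun g : G => g ∉ D), Nat.card (fixedBy X g) := by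
    rw [Finset.card_eq_sum_ones]
    exact Finset.sum_le_sum hge
  haveI : Nonempty (Quotient (orbitRel D X)) := ⟨Quotient.mk'' (Classical.arbitrary X)⟩
  have ho : 0 < Nat.card (Quotient (orbitRel D X)) := Nat.card_pos
  have hD : 0 < Nat.card D := Nat.card_pos
  have hod : Nat.card (Quotient (orbitRel D X)) = 1 := by
    by_contra hne
    have : 2 ≤ Nat.card (Quotient (orbitRel D X)) := by omega
    nlinarith
  constructor
  · exact (pretransitive_iff_subsingleton_quotient D X).mpr
      (Nat.card_eq_one_iff_unique.mp hod).1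
  · intro g hg x y hx hy
    by_contra hne
    haveI : Nontrivial (fixedBy X g) := ⟨⟨⟨x, hx⟩, ⟨y, hy⟩, fun e => hne (congrArg Subtype.val e)⟩⟩
    have h3 : 1 < Nat.card (fixedBy X g) := Finite.one_lt_card
    have h4 : (Finset.univ.filter (fun g : G => g ∉ D)).card <
        ∑ g ∈ Finset.univ.filter (fun g : G => g ∉ D), Nat.card (fixedBy X g) := by
      rw [Finset.card_eq_sum_ones]
      exact Finset.sum_lt_sum hge ⟨g, by simp [hg], h3⟩
    rw [hod, one_mul] at hs
    omega

end Sums

section Structure

variable {G X : Type*} [Group G] [Finite G] [MulAction G X] [Finite X]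

/-- Stabilizers of two points meet inside `D`. -/
theorem Uniq.stab_inf_le {D : Subgroup G} (hu : Uniq D X) {x y : X} (hxy : x ≠ y) :
    stabilizer G x ⊓ stabilizer G y ≤ D := fun g hg => by
  by_contra hgD
  exact hxy (hu g hgD x y hg.1 hg.2)

variable [IsPretransitive G X]

theorem sup_stabilizer_eq_top {D : Subgroup G} [D.Normal] (h : Ext D X) (x : X) :
    stabilizer G x ⊔ D = ⊤ := by
  haveI : Nonempty X := ⟨x⟩
  haveI := h.transitive.1
  refine eq_top_iff.mpr fun g _ => ?_
  obtain ⟨d, hd⟩ := exists_smul_eq D (g • x) x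
  have h1 : (d : G) * g ∈ stabilizer G x := by
    rw [mem_stabilizer_iff, mul_smul]; exact hd
  have h2 : g = ((d : G))⁻¹ * ((d : G) * g) := by group
  rw [h2]
  exact mul_mem (inv_mem ((le_sup_right : D ≤ _) d.2)) ((le_sup_left : stabilizer G x ≤ _) h1)

theorem relIndex_eq_index {D S : Subgroup G} [D.Normal] (hS : S ⊔ D = ⊤) :
    D.relIndex S = D.index := by
  rw [← Subgroup.relIndex_sup_right S D, hS, Subgroup.relIndex_top_right]

/-- The number of suborbits is large. -/
theorem card_suborbits {D : Subgroup G} [D.Normal] (h : Ext D X) (x : X) (h2 : 2 ≤ Nat.card X) :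
    D.index + 1 ≤ Nat.card (Quotient (orbitRel (D.subgroupOf (stabilizer G x)) X)) := by
  haveI : Nonempty X := ⟨x⟩
  obtain ⟨-, hu⟩ := h.transitive
  have he : Ext (D.subgroupOf (stabilizer G x)) X := fun g hg => ⟨x, g.2⟩
  have hu' : Uniq (D.subgroupOf (stabilizer G x)) X := fun g hg a b ha hb =>
    hu (g : G) (fun hD => hg hD) a b ha hb
  have hid := card_orbits_identity he hu'
  have hk : (D.subgroupOf (stabilizer G x)).index = D.index :=
    relIndex_eq_index (sup_stabilizer_eq_top h x)
  rw [hk] at hid
  haveI : Nontrivial X := Finite.one_lt_card_iff_nontrivial.mp (by omega)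
  obtain ⟨y, hy⟩ := exists_ne x
  have hne : (Quotient.mk'' x : Quotient (orbitRel (stabilizer G x) X)) ≠ Quotient.mk'' y := by
    intro e
    rw [Quotient.eq'', orbitRel_apply] at e
    obtain ⟨s, hs⟩ := e
    have h3 : (s : G) • y = x := hs
    have h4 : (s : G) • x = x := s.2
    exact hy (smul_left_cancel (s : G) (h3.trans h4.symm))
  haveI : Nontrivial (Quotient (orbitRel (stabilizer G x) X)) := ⟨⟨_, _, hne⟩⟩
  have ho : 1 < Nat.card (Quotient (orbitRel (stabilizer G x) X)) := Finite.one_lt_card
  have hkpos : 0 < D.index := Nat.pos_of_ne_zero Subgroup.index_ne_zero_of_finite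
  nlinarith

/-- The index of `D` divides `#X - 1`. -/
theorem index_dvd {D : Subgroup G} [D.Normal] (h : Ext D X) (x : X) :
    ∃ c, Nat.card X = D.index * c + 1 := by
  haveI : Nonempty X := ⟨x⟩
  obtain ⟨-, hu⟩ := h.transitive
  letI := Fintype.ofFinite X
  letI : Fintype (Quotient (orbitRel (stabilizer G x) X)) := Fintype.ofFinite _
  have hsum : Nat.card X = ∑ q : Quotient (orbitRel (stabilizer G x) X),
      Nat.card (orbit (stabilizer G x) q.out) := by
    rw [Nat.card_congr (selfEquivSigmaOrbits (stabilizer G x) X), Nat.card_sigma]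
  rw [← Finset.sum_erase_add Finset.univ _ (Finset.mem_univ (Quotient.mk'' x))] at hsum
  have hfix : ∀ s : stabilizer G x, s • x = x := fun s => s.2
  have horb : orbit (stabilizer G x) x = {x} :=
    Set.eq_singleton_iff_unique_mem.mpr ⟨mem_orbit_self x, by rintro _ ⟨s, rfl⟩; exact hfix s⟩
  have h1 : Nat.card (orbit (stabilizer G x)
      (Quotient.mk'' x : Quotient (orbitRel (stabilizer G x) X)).out) = 1 := by
    have e : (Quotient.mk'' x : Quotient (orbitRel (stabilizer G x) X)).out ∈
        orbit (stabilizer G x) x := (orbitRel_apply).mp (Quotient.mk_out (s := orbitRel _ X) x)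
    rw [orbit_eq_iff.mpr e, horb, Nat.card_unique]
  have h2 : D.index ∣ ∑ q ∈ Finset.univ.erase (Quotient.mk'' x),
      Nat.card (orbit (stabilizer G x) (q : Quotient (orbitRel (stabilizer G x) X)).out) := by
    refine Finset.dvd_sum fun q hq => ?_
    have hne : q.out ≠ x := fun e => (Finset.mem_erase.mp hq).1 (by rw [← q.out_eq, e])
    rw [Nat.card_congr (orbitEquivQuotientStabilizer _ _), ← Subgroup.index,
      ← relIndex_eq_index (sup_stabilizer_eq_top h x)]
    apply Subgroup.index_dvd_of_le
    intro s hs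
    exact hu.stab_inf_le hne ⟨hs, s.2⟩
  rw [h1] at hsum
  obtain ⟨c, hc⟩ := h2
  exact ⟨c, by rw [hsum, hc]⟩

theorem index_lt {D : Subgroup G} [D.Normal] (h : Ext D X) (x : X) (h2 : 2 ≤ Nat.card X) :
    D.index + 1 ≤ Nat.card X := by
  obtain ⟨c, hc⟩ := index_dvd h x
  rcases Nat.eq_zero_or_pos c with rfl | hc0
  · omega
  · nlinarith

/-- An intermediate subgroup above a point stabilizer forces a small index. -/
theorem sq_le_of_overgroup {D : Subgroup G} [D.Normal] (h : Ext D X) (x : X) {S : Subgroup G}
    (h1 : stabilizer G x < S) (h2 : S ≠ ⊤) : (D.index + 1) ^ 2 ≤ Nat.card X := by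
  haveI : Nonempty X := ⟨x⟩
  have hco : Ext D (G ⧸ S) := fun g hg => by
    obtain ⟨z, hz⟩ := h g hg
    obtain ⟨t, rfl⟩ := exists_smul_eq G x z
    refine ⟨(t : G ⧸ S), ?_⟩
    rw [MulAction.Quotient.smul_coe, QuotientGroup.eq]
    have h3 : t⁻¹ * g * t ∈ stabilizer G x := by
      rw [mem_stabilizer_iff, mul_smul, mul_smul, hz, inv_smul_smul]
    have h4 := inv_mem (h1.le h3)
    simpa [smul_eq_mul, mul_assoc] using h4
  obtain ⟨-, huS⟩ := hco.transitive
  have hS2 : 2 ≤ Nat.card (G ⧸ S) := by
    have h0 : S.index ≠ 0 := Subgroup.index_ne_zero_of_finite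
    have h1' : S.index ≠ 1 := fun e => h2 (Subgroup.index_eq_one.mp e)
    change 2 ≤ S.index
    omega
  have hm : D.index + 1 ≤ S.index := index_lt hco ((1 : G) : G ⧸ S) hS2
  let B := orbit S x
  haveI : Nonempty B := ⟨⟨x, mem_orbit_self x⟩⟩
  have hB : Ext (D.subgroupOf S) B := fun g hg => by
    obtain ⟨z, hz⟩ := h (g : G) hg
    obtain ⟨t, rfl⟩ := exists_smul_eq G x z
    have e1 : (g : G) • ((1 : G) : G ⧸ S) = ((1 : G) : G ⧸ S) := by
      rw [MulAction.Quotient.smul_coe, QuotientGroup.eq]; simp
    have e2 : (g : G) • (t : G ⧸ S) = (t : G ⧸ S) := by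
      rw [MulAction.Quotient.smul_coe, QuotientGroup.eq]
      have h3 : t⁻¹ * (g : G) * t ∈ stabilizer G x := by
        rw [mem_stabilizer_iff, mul_smul, mul_smul, hz, inv_smul_smul]
      simpa [smul_eq_mul, mul_assoc] using inv_mem (h1.le h3)
    have ht : t ∈ S := by
      have := huS (g : G) hg _ _ e1 e2
      rw [QuotientGroup.eq] at this
      simpa using this
    exact ⟨⟨t • x, ⟨⟨t, ht⟩, rfl⟩⟩, Subtype.ext hz⟩
  have hsup : S ⊔ D = ⊤ :=
    eq_top_iff.mpr (le_trans (sup_stabilizer_eq_top h x).ge (sup_le_sup_right h1.le D))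
  have hstab : stabilizer S x = (stabilizer G x).subgroupOf S := by
    ext s; exact Iff.rfl
  have e2 : (stabilizer G x).relIndex S = Nat.card B := by
    rw [Subgroup.relIndex, ← hstab, index_stabilizer, Nat.card_coe_set_eq]
  have hcardB : Nat.card B * S.index = Nat.card X := by
    rw [← e2, Subgroup.relIndex_mul_index h1.le, index_stabilizer_of_transitive G x]
  have hB2 : 2 ≤ Nat.card B := by
    have h0 : (stabilizer G x).relIndex S ≠ 1 := fun e =>
      h1.not_ge (Subgroup.relIndex_eq_one.mp e)
    have h0' : 0 < Nat.card B := Nat.card_pos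
    omega
  have hb : (D.subgroupOf S).index + 1 ≤ Nat.card B :=
    index_lt hB ⟨x, mem_orbit_self x⟩ hB2
  have hkk : (D.subgroupOf S).index = D.index := relIndex_eq_index hsup
  rw [hkk] at hb
  calc (D.index + 1) ^ 2 = (D.index + 1) * (D.index + 1) := sq _
    _ ≤ Nat.card B * S.index := Nat.mul_le_mul hb hm
    _ = Nat.card X := hcardB

theorem isPreprimitive_of_large {D : Subgroup G} [D.Normal] (h : Ext D X)
    (h2 : 2 ≤ Nat.card X) (hk : Nat.card X < (D.index + 1) ^ 2) : IsPreprimitive G X := by
  haveI : Nontrivial X := Finite.one_lt_card_iff_nontrivial.mp (by omega)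
  obtain ⟨x⟩ : Nonempty X := inferInstance
  apply (isCoatom_stabilizer_iff_preprimitive G x).mp
  refine ⟨fun htop => ?_, fun S hS => ?_⟩
  · have h3 := MulAction.index_stabilizer_of_transitive G x
    rw [htop, Subgroup.index_top] at h3
    omega
  · by_contra hne
    have := sq_le_of_overgroup h x hS hne
    omega

/-- A normal subgroup is transitive or trivial when the index of `D` is large. -/
theorem normal_transitive_of_large {D : Subgroup G} [D.Normal] (h : Ext D X)
    (hk : Nat.card X < (D.index + 1) ^ 2) (T : Subgroup G) [T.Normal] (x : X)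
    (hT : ¬ T ≤ stabilizer G x) : IsPretransitive T X := by
  have hS : stabilizer G x < stabilizer G x ⊔ T :=
    lt_of_le_of_ne le_sup_left fun e => hT (e ▸ le_sup_right)
  have htop : stabilizer G x ⊔ T = ⊤ := by
    by_contra hne
    have := sq_le_of_overgroup h x hS hne
    omega
  refine ⟨fun a b => ?_⟩
  suffices h' : ∀ z : X, ∃ t : T, t • x = z by
    obtain ⟨s, rfl⟩ := h' a; obtain ⟨t, rfl⟩ := h' b
    exact ⟨t * s⁻¹, by rw [mul_smul, inv_smul_smul]⟩
  intro z
  obtain ⟨g, rfl⟩ := exists_smul_eq G x z
  have hg : g ∈ T ⊔ stabilizer G x := by rw [sup_comm, htop]; trivial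
  rw [← SetLike.mem_coe, Subgroup.normal_mul] at hg
  obtain ⟨t, ht, s, hs, rfl⟩ := hg
  exact ⟨⟨t, ht⟩, by
    change t • x = (t * s) • x
    rw [mul_smul, show s • x = x from hs]⟩

end Structure

section Average

variable {N Y : Type*} [Group N] [Finite N] [MulAction N Y] [Finite Y]

/-- Fixed points exist in every coset of a transitive normal subgroup when they are unique. -/
theorem ext_of_transitive [Nonempty Y] {M : Subgroup N} [M.Normal] [IsPretransitive M Y]
    (hu : Uniq M Y) : Ext M Y := by
  letI := Fintype.ofFinite N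
  letI := Fintype.ofFinite Y
  intro g hg
  have hle : ∀ m : M, Nat.card (fixedBy Y (g * (m : N))) ≤ 1 := fun m => by
    haveI : Subsingleton (fixedBy Y (g * (m : N))) := ⟨fun a b => Subtype.ext
      (hu _ (fun hm => hg ((M.mul_mem_cancel_right m.2).mp hm)) _ _ a.2 b.2)⟩
    exact Finite.card_le_one_iff_subsingleton.mpr inferInstance
  have hsum : ∑ m : M, Nat.card (fixedBy Y (g * (m : N))) = Nat.card M := by
    have e1 : ∀ m : M, Nat.card (fixedBy Y (g * (m : N))) =
        ∑ y : Y, if g • ((m : N) • y) = y then 1 else 0 := fun m => by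
      rw [Nat.card_eq_fintype_card, Fintype.card_subtype, Finset.card_filter]
      exact Finset.sum_congr rfl fun y _ => by
        simp only [mem_fixedBy, mul_smul]
    simp only [e1]
    rw [Finset.sum_comm]
    have e2 : ∀ y : Y, (∑ m : M, if g • ((m : N) • y) = y then 1 else 0) =
        Nat.card (stabilizer M y) := fun y => by
      obtain ⟨m₀, hm₀⟩ := exists_smul_eq M y (g⁻¹ • y)
      rw [Nat.card_eq_fintype_card, Fintype.card_subtype, Finset.card_filter,
        ← Equiv.sum_comp (Equiv.mulLeft m₀)]
      refine Finset.sum_congr rfl fun m _ => ?_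
      have : g • (((m₀ * m : M) : N) • y) = y ↔ m ∈ stabilizer M y := by
        rw [mem_stabilizer_iff, ← eq_inv_smul_iff (g := g)]
        change (m₀ * m) • y = g⁻¹ • y ↔ _
        rw [← hm₀, mul_smul, smul_left_cancel_iff]
      simp only [Equiv.coe_mulLeft, this]
    simp only [e2]
    obtain ⟨y₀⟩ := ‹Nonempty Y›
    have hc : ∀ y : Y, Nat.card (stabilizer M y) * Nat.card Y = Nat.card M := fun y => by
      rw [← MulAction.index_stabilizer_of_transitive M y]
      exact (stabilizer M y).card_mul_index
    have hpos : 0 < Nat.card Y := Nat.card_pos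
    apply Nat.eq_of_mul_eq_mul_right hpos
    rw [Finset.sum_mul, Finset.sum_congr rfl fun y _ => hc y, Finset.sum_const, Finset.card_univ,
      smul_eq_mul, ← Nat.card_eq_fintype_card, mul_comm]
  by_contra hno
  have h0 : Nat.card (fixedBy Y (g * ((1 : M) : N))) = 0 := by
    haveI : IsEmpty (fixedBy Y (g * ((1 : M) : N))) := ⟨fun y => hno ⟨y.1, by
      have := y.2
      simpa [mem_fixedBy] using this⟩⟩
    exact Nat.card_of_isEmpty
  have hlt : ∑ m : M, Nat.card (fixedBy Y (g * (m : N))) < ∑ _m : M, 1 :=
    Finset.sum_lt_sum (fun m _ => hle m) ⟨1, Finset.mem_univ _, by omega⟩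
  rw [hsum, Finset.sum_const, Finset.card_univ, smul_eq_mul, mul_one,
    ← Nat.card_eq_fintype_card] at hlt
  exact lt_irrefl _ hlt

end Average

section GlobalFixed

variable {N Z : Type*} [Group N] [Finite N] [MulAction N Z] [Finite Z]

/-- A group in which elements outside a normal subgroup acting trivially fix exactly one point
has a global fixed point. -/
theorem exists_fixed_of_trivial [Nonempty Z] {M : Subgroup N}
    (htriv : ∀ m ∈ M, ∀ z : Z, m • z = z) (h : Ext M Z) (hu : Uniq M Z) :
    ∃ z : Z, ∀ g : N, g • z = z := by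
  letI := Fintype.ofFinite Z
  letI : Fintype (Quotient (orbitRel N Z)) := Fintype.ofFinite _
  set k := M.index with hkdef
  have hk0 : 0 < k := Nat.pos_of_ne_zero Subgroup.index_ne_zero_of_finite
  have hid := card_orbits_identity h hu
  have hM : Nat.card (Quotient (orbitRel M Z)) = Nat.card Z := by
    refine (Nat.card_congr (Equiv.ofBijective (fun z : Z => (Quotient.mk'' z :
      Quotient (orbitRel M Z))) ⟨fun a b e => ?_, fun q => ⟨q.out, q.out_eq⟩⟩)).symm
    rw [Quotient.eq'', orbitRel_apply] at e
    obtain ⟨m, hm⟩ := e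
    have h1 : (m : N) • b = a := hm
    rw [htriv m m.2] at h1
    exact h1.symm
  have hsum : Nat.card Z = ∑ q : Quotient (orbitRel N Z), Nat.card (orbit N q.out) := by
    rw [Nat.card_congr (selfEquivSigmaOrbits N Z), Nat.card_sigma]
  set c : Quotient (orbitRel N Z) → ℕ := fun q => Nat.card (orbit N q.out) with hc
  have hdvd : ∀ q, c q ∣ k := fun q => by
    simp only [hc, hkdef]
    rw [Nat.card_congr (orbitEquivQuotientStabilizer _ _)]
    exact Subgroup.index_dvd_of_le fun m hm => htriv m hm _
  by_contra hno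
  push Not at hno
  have hc1 : ∀ q, c q ≠ 1 := fun q e => by
    obtain ⟨g, hg⟩ := hno q.out
    have e' : Subsingleton (orbit N q.out) := (Nat.card_eq_one_iff_unique.mp e).1
    exact hg (congrArg Subtype.val (Subsingleton.elim
      (⟨g • q.out, mem_orbit _ g⟩ : orbit N q.out) ⟨q.out, mem_orbit_self _⟩))
  have hdef : ∑ q, (k - c q) + 1 = k := by
    have h1 : ∑ q, (k - c q) + ∑ q, c q = k * Nat.card (Quotient (orbitRel N Z)) := by
      rw [← Finset.sum_add_distrib, Finset.sum_congr rfl fun q _ =>
        Nat.sub_add_cancel (Nat.le_of_dvd hk0 (hdvd q)), Finset.sum_const, Finset.card_univ,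
        smul_eq_mul, ← Nat.card_eq_fintype_card, mul_comm]
    rw [hM, hsum] at hid
    change ∑ q, c q + k = k * _ + 1 at hid
    omega
  have hhalf : ∀ q, c q ≠ k → k ≤ 2 * (k - c q) := fun q hq => by
    obtain ⟨e, he⟩ := hdvd q
    have hcpos : 0 < c q := Nat.pos_of_ne_zero fun e0 => by rw [e0, zero_mul] at he; omega
    have : 2 ≤ e := by
      rcases e with _ | _ | e
      · omega
      · exact absurd (by simpa using he.symm) hq
      · omega
    have : 2 * c q ≤ k := by rw [he, mul_comm]; exact Nat.mul_le_mul le_rfl this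
    omega
  obtain ⟨z₀⟩ := ‹Nonempty Z›
  by_cases hex : ∃ q, c q ≠ k
  · obtain ⟨q, hq⟩ := hex
    have hrest : ∀ q', q' ≠ q → c q' = k := fun q' hne => by
      by_contra hq'
      have h2 : (k - c q) + (k - c q') ≤ ∑ q, (k - c q) := by
        rw [← Finset.sum_pair (f := fun q => k - c q) hne.symm]
        exact Finset.sum_le_sum_of_subset (Finset.subset_univ _)
      have h3 := hhalf q hq
      have h4 := hhalf q' hq'
      omega
    rw [Finset.sum_eq_single q (fun q' _ hne => by rw [hrest q' hne, Nat.sub_self])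
      (fun hq => absurd (Finset.mem_univ q) hq)] at hdef
    have := Nat.le_of_dvd hk0 (hdvd q)
    exact hc1 q (by omega)
  · push Not at hex
    rw [Finset.sum_eq_zero (fun q _ => by rw [hex q, Nat.sub_self])] at hdef
    exact hc1 (Quotient.mk'' z₀) (by rw [hex]; omega)

end GlobalFixed

end Cfsg.Agent.DerangeIdx
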