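import Cfsg.Agent.DerangeIdx.Orbit

/-!
# The degree is a prime power and a Sylow subgroup is regular elementary abelian
-/

set_option autoImplicit false
set_option linter.unusedSectionVars false
set_option linter.style.haveILetI false

namespace Cfsg.Agent.DerangeIdx

open MulAction
open scoped Classical

/-- The action of a group on the orbits of a normal subgroup. -/
@[implicit_reducible]
def orbitsAction {N : Type*} [Group N] (M : Subgroup N) [hM : M.Normal] (Y : Type*)
    [MulAction N Y] : MulAction N (Quotient (orbitRel M Y)) where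
  smul g := Quotient.map' (fun y => g • y) (fun a b hab => by
    obtain ⟨m, hm⟩ := hab
    refine ⟨⟨g * (m : N) * g⁻¹, hM.conj_mem _ m.2 g⟩, ?_⟩
    change (g * (m : N) * g⁻¹) • (g • b) = g • a
    rw [← hm, ← mul_smul, inv_mul_cancel_right, mul_smul]
    rfl)
  one_smul q := Quotient.inductionOn' q fun y => by
    change Quotient.mk'' ((1 : N) • y) = _
    rw [one_smul]
  mul_smul g h q := Quotient.inductionOn' q fun y => by
    change Quotient.mk'' ((g * h) • y) = Quotient.mk'' (g • (h • y))
    rw [mul_smul]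

/-- Some orbit of a normal subgroup is invariant. -/
theorem exists_orbit_invariant {N Y : Type*} [Group N] [Finite N] [MulAction N Y] [Finite Y]
    [Nonempty Y] {M : Subgroup N} [M.Normal] (h : Ext M Y) (hu : Uniq M Y) :
    ∃ y : Y, ∀ g : N, ∃ m ∈ M, g • y = m • y := by
  letI := orbitsAction M Y
  have hsmul : ∀ (g : N) (y : Y), g • (Quotient.mk'' y : Quotient (orbitRel M Y)) =
      Quotient.mk'' (g • y) := fun g y => rfl
  have htriv : ∀ m ∈ M, ∀ q : Quotient (orbitRel M Y), m • q = q := fun m hm q => by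
    induction q using Quotient.inductionOn' with
    | h y => exact Quotient.eq''.mpr ⟨⟨m, hm⟩, rfl⟩
  have he : Ext M (Quotient (orbitRel M Y)) := fun g hg => by
    obtain ⟨y, hy⟩ := h g hg
    exact ⟨Quotient.mk'' y, by rw [hsmul, hy]⟩
  have hin : ∀ (g : N), g ∉ M → ∀ q : Quotient (orbitRel M Y), g • q = q →
      ∃ z : Y, g • z = z ∧ Quotient.mk'' z = q := by
    intro g hg q hq
    let S := stabilizer N q
    let Y' : SubMulAction S Y :=
      { carrier := {z | (Quotient.mk'' z : Quotient (orbitRel M Y)) = q}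
        smul_mem' := fun s z hz => by
          change (Quotient.mk'' ((s : N) • z) : Quotient (orbitRel M Y)) = q
          rw [← hsmul, hz]
          exact s.2 }
    haveI : Nonempty Y' := ⟨⟨q.out, q.out_eq⟩⟩
    haveI : IsPretransitive (M.subgroupOf S) Y' := ⟨fun a b => by
      have e : (Quotient.mk'' b.1 : Quotient (orbitRel M Y)) = Quotient.mk'' a.1 :=
        b.2.trans a.2.symm
      obtain ⟨m, hm⟩ := Quotient.eq''.mp e
      exact ⟨⟨⟨(m : N), htriv m m.2 q⟩, m.2⟩, Subtype.ext hm⟩⟩
    have hu' : Uniq (M.subgroupOf S) Y' := fun s hs a b ha hb =>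
      Subtype.ext (hu (s : N) hs _ _ (congrArg Subtype.val ha) (congrArg Subtype.val hb))
    obtain ⟨z, hz⟩ := ext_of_transitive hu' (⟨g, hq⟩ : S) hg
    exact ⟨z.1, congrArg Subtype.val hz, z.2⟩
  have hu₂ : Uniq M (Quotient (orbitRel M Y)) := fun g hg a b ha hb => by
    obtain ⟨za, hza, rfl⟩ := hin g hg a ha
    obtain ⟨zb, hzb, rfl⟩ := hin g hg b hb
    rw [hu g hg za zb hza hzb]
  haveI : Nonempty (Quotient (orbitRel M Y)) := ⟨Quotient.mk'' (Classical.arbitrary Y)⟩
  obtain ⟨q, hq⟩ := exists_fixed_of_trivial htriv he hu₂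
  induction q using Quotient.inductionOn' with
  | h y =>
    refine ⟨y, fun g => ?_⟩
    obtain ⟨m, hm⟩ := Quotient.eq''.mp ((hsmul g y).symm.trans (hq g))
    exact ⟨m, m.2, hm.symm⟩

section Setup

variable {G Ω : Type*} [Group G] [Finite G] [MulAction G Ω] [Finite Ω] [IsPretransitive G Ω]
  {D : Subgroup G} [D.Normal]

/-- Covering of `G / D` passes to intersections. -/
theorem index_subgroupOf_eq {N : Subgroup G} (hN : N ⊔ D = ⊤) :
    (D.subgroupOf N).index = D.index :=
  relIndex_eq_index hN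

theorem card_stab_mul (h : Ext D Ω) (x : Ω) :
    Nat.card (stabilizer D x) * Nat.card Ω = Nat.card D := by
  haveI : Nonempty Ω := ⟨x⟩
  haveI := h.transitive.1
  rw [← index_stabilizer_of_transitive D x]
  exact (stabilizer D x).card_mul_index

/-- Every prime part of the degree exceeds the index. -/
theorem succ_index_le_primePart (h : Ext D Ω) (x : Ω) (hk : 2 ≤ D.index)
    (hbig : Nat.card Ω < (D.index + 1) ^ 2) {r : ℕ} [Fact r.Prime] (hr : r ∣ Nat.card Ω) :
    D.index + 1 ≤ r ^ (Nat.card Ω).factorization r := by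
  haveI : Nonempty Ω := ⟨x⟩
  obtain ⟨htr, hu⟩ := h.transitive
  let H := stabilizer G x
  let K : Subgroup H := D.subgroupOf H
  obtain ⟨P₀⟩ : Nonempty (Sylow r K) := inferInstance
  let P : Subgroup G := ((P₀ : Subgroup K).map K.subtype).map H.subtype
  have hPD : P ≤ D := by
    rintro _ ⟨_, ⟨p, -, rfl⟩, rfl⟩; exact p.2
  have hPH : P ≤ H := Subgroup.map_subtype_le _
  have hcardK : Nat.card K = Nat.card (stabilizer D x) := Nat.card_congr
    { toFun := fun a => ⟨⟨(a : H).1, a.2⟩, (a : H).2⟩
      invFun := fun a => ⟨⟨(a : D).1, a.2⟩, (a : D).2⟩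
      left_inv := fun _ => rfl
      right_inv := fun _ => rfl }
  have hcardP : Nat.card P = r ^ (Nat.card K).factorization r := by
    rw [Subgroup.card_map_of_injective H.subtype_injective,
      Subgroup.card_map_of_injective K.subtype_injective, ← Sylow.card_eq_multiplicity P₀]
  let N : Subgroup G := Subgroup.normalizer (P : Set G)
  let Y : SubMulAction N Ω :=
    { carrier := {z | ∀ p ∈ P, p • z = z}
      smul_mem' := fun g z hz p hp => by
        have hgp : ((g : G))⁻¹ * p * (g : G) ∈ P := by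
          have := (Subgroup.mem_normalizer_iff.mp (inv_mem g.2) p).mp hp
          simpa [mul_assoc] using this
        change p • ((g : G) • z) = (g : G) • z
        calc p • ((g : G) • z) = (g : G) • (((g : G)⁻¹ * p * (g : G)) • z) := by
              simp only [← mul_smul]; group
          _ = (g : G) • z := by rw [hz _ hgp] }
  haveI : Nonempty Y := ⟨⟨x, fun p hp => hPH hp⟩⟩
  have hYtr : ∀ z : Ω, (∀ p ∈ P, p • z = z) → ∃ m : G, m ∈ D ∧ m ∈ N ∧ m • x = z := by
    intro z hz
    obtain ⟨d, hd⟩ := exists_smul_eq D x z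
    let f : ∀ p : G, p ∈ P → K := fun p hp => ⟨⟨(d : G)⁻¹ * p * d, by
      rw [mem_stabilizer_iff, mul_smul, mul_smul, show (d : G) • x = z from hd, hz p hp,
        ← show (d : G) • x = z from hd, inv_smul_smul]⟩,
      mul_mem (mul_mem (inv_mem d.2) (hPD hp)) d.2⟩
    let Q : Subgroup K :=
      { carrier := {k | (d : G) * ((k : H) : G) * (d : G)⁻¹ ∈ P}
        one_mem' := by simp
        mul_mem' := fun {a b} ha hb => by
          have := mul_mem (show _ ∈ P from ha) (show _ ∈ P from hb)
          simpa [mul_assoc] using this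
        inv_mem' := fun {a} ha => by
          have := inv_mem (show _ ∈ P from ha)
          simpa [mul_assoc] using this }
    have hQ : Nat.card Q = r ^ (Nat.card K).factorization r := by
      rw [← hcardP]
      exact Nat.card_congr
        { toFun := fun k => ⟨_, k.2⟩
          invFun := fun p => ⟨f p.1 p.2, by
            change (d : G) * ((d : G)⁻¹ * p.1 * d) * (d : G)⁻¹ ∈ P
            simpa [mul_assoc] using p.2⟩
          left_inv := fun k => by
            apply Subtype.ext; apply Subtype.ext; apply Subtype.ext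
            change (d : G)⁻¹ * ((d : G) * (((k : K) : H) : G) * (d : G)⁻¹) * d = _
            group
          right_inv := fun p => by
            apply Subtype.ext
            change (d : G) * ((d : G)⁻¹ * p.1 * d) * (d : G)⁻¹ = p.1
            group }
    obtain ⟨e, he⟩ := exists_smul_eq K P₀ (Sylow.ofCard Q hQ)
    let eG : G := ((e : H) : G)
    refine ⟨(d : G) * eG, mul_mem d.2 e.2, ?_, ?_⟩
    · rw [Subgroup.mem_normalizer_iff]
      intro p
      have key : ∀ k : K, k ∈ (P₀ : Subgroup K) ↔ e * k * e⁻¹ ∈ Q := fun k => by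
        have h1 : ((e • P₀ : Sylow r K) : Subgroup K) = Q := by rw [he]; rfl
        rw [← h1, Sylow.coe_subgroup_smul, Subgroup.mem_pointwise_smul_iff_inv_smul_mem]
        simp [MulAut.smul_def, mul_assoc]
      constructor
      · rintro ⟨_, ⟨k, hk, rfl⟩, rfl⟩
        have h2 : (d : G) * (((e * k * e⁻¹ : K) : H) : G) * (d : G)⁻¹ ∈ P := (key k).mp hk
        have e3 : (d : G) * eG * ((k : H) : G) * ((d : G) * eG)⁻¹ =
            (d : G) * (((e * k * e⁻¹ : K) : H) : G) * (d : G)⁻¹ := by
          simp only [eG, Subgroup.coe_mul, Subgroup.coe_inv, mul_inv_rev, mul_assoc]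
        change (d : G) * eG * ((k : H) : G) * ((d : G) * eG)⁻¹ ∈ P
        rw [e3]; exact h2
      · intro hp
        have hd' : ((d : G) * eG)⁻¹ = eG⁻¹ * (d : G)⁻¹ := mul_inv_rev _ _
        let k : K := e⁻¹ * f _ hp * e
        have hk : k ∈ (P₀ : Subgroup K) := (key k).mpr (by
          change (d : G) * (((e * (e⁻¹ * f _ hp * e) * e⁻¹ : K) : H) : G) * (d : G)⁻¹ ∈ P
          have e4 : ∀ w : K, e * (e⁻¹ * w * e) * e⁻¹ = w := fun w => by group
          rw [e4]
          change (d : G) * ((d : G)⁻¹ * _ * d) * (d : G)⁻¹ ∈ P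
          simpa [mul_assoc] using hp)
        refine ⟨(k : H), ⟨k, hk, rfl⟩, ?_⟩
        change eG⁻¹ * ((d : G)⁻¹ * _ * d) * eG = p
        group
    · rw [mul_smul, show eG • x = x from (e : H).2]
      exact hd
  let M : Subgroup N := D.subgroupOf N
  haveI : IsPretransitive M Y := ⟨fun a b => by
    obtain ⟨ma, hma1, hma2, hma3⟩ := hYtr a.1 a.2
    obtain ⟨mb, hmb1, hmb2, hmb3⟩ := hYtr b.1 b.2
    refine ⟨⟨⟨mb * ma⁻¹, mul_mem hmb2 (inv_mem hma2)⟩, mul_mem hmb1 (inv_mem hma1)⟩,
      Subtype.ext ?_⟩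
    change (mb * ma⁻¹) • a.1 = b.1
    rw [mul_smul, ← hma3, inv_smul_smul, hmb3]⟩
  have huY : Uniq M Y := fun g hg a b ha hb => Subtype.ext
    (hu (g : G) hg _ _ (congrArg Subtype.val ha) (congrArg Subtype.val hb))
  have hextY : Ext M Y := ext_of_transitive huY
  have hcover : N ⊔ D = ⊤ := by
    refine eq_top_iff.mpr (le_trans (sup_stabilizer_eq_top h x).ge (sup_le ?_ le_sup_right))
    intro g hg
    have hf : (⟨g, hg⟩ : H) ∈ Subgroup.normalizer (((P₀ : Subgroup K).map K.subtype) : Set H) ⊔ K :=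
      by rw [Sylow.normalizer_sup_eq_top P₀]; trivial
    rw [← SetLike.mem_coe, Subgroup.mul_normal] at hf
    obtain ⟨a, ha, b, hb, hab⟩ := hf
    have hg' : g = (a : G) * (b : G) := (congrArg Subtype.val hab).symm
    rw [hg']
    refine mul_mem ((le_sup_left : N ≤ _) ?_) ((le_sup_right : D ≤ _) hb)
    exact Subgroup.le_normalizer_map H.subtype (Subgroup.mem_map_of_mem _ ha)
  have hkM : M.index = D.index := index_subgroupOf_eq hcover
  -- a Sylow subgroup of `M` properly contains `P`
  obtain ⟨T₀⟩ : Nonempty (Sylow r M) := inferInstance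
  let T : Subgroup N := (T₀ : Subgroup M).map M.subtype
  have hTpg : IsPGroup r T := T₀.2.map _
  have hPN : P ≤ N := Subgroup.le_normalizer
  have hPT : P.subgroupOf N ≤ T := by
    haveI : (P.subgroupOf N).Normal := Subgroup.normal_in_normalizer
    have h1 : (P.subgroupOf N).subgroupOf M ≤ (T₀ : Subgroup M) := by
      refine IsPGroup.le_sylow_of_normal ?_ T₀
      exact ((IsPGroup.of_card hcardP).comap_of_injective _ N.subtype_injective).comap_of_injective
        _ M.subtype_injective
    intro g hg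
    exact ⟨⟨g, hPD hg⟩, h1 hg, rfl⟩
  have hcardD : (Nat.card D).factorization r =
      (Nat.card K).factorization r + (Nat.card Ω).factorization r := by
    rw [← card_stab_mul h x, hcardK, Nat.factorization_mul Nat.card_pos.ne' Nat.card_pos.ne',
      Finsupp.add_apply]
  have hbpos : 1 ≤ (Nat.card Ω).factorization r :=
    (Fact.out : r.Prime).factorization_pos_of_dvd Nat.card_pos.ne' hr
  have hTD : ∀ t : T, ((t : N) : G) ∈ D := by
    rintro ⟨_, ⟨t, -, rfl⟩⟩; exact t.2
  have hTle : Nat.card T ≤ r ^ (Nat.card D).factorization r := by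
    let T' : Subgroup D := (T.map N.subtype).subgroupOf D
    have hT'le : T.map N.subtype ≤ D := by rintro _ ⟨t, ht, rfl⟩; exact hTD ⟨t, ht⟩
    have e : Nat.card T' = Nat.card T := by
      rw [Nat.card_congr (Subgroup.subgroupOfEquivOfLe hT'le).toEquiv,
        Subgroup.card_map_of_injective N.subtype_injective]
    obtain ⟨i, hi⟩ := IsPGroup.iff_card.mp hTpg
    rw [hi]
    refine Nat.pow_le_pow_right (Fact.out : r.Prime).pos ?_
    exact ((Fact.out : r.Prime).pow_dvd_iff_le_factorization Nat.card_pos.ne').mp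
      (hi ▸ e ▸ Subgroup.card_subgroup_dvd_card T')
  have hTgt : Nat.card P < Nat.card T := by
    obtain ⟨Q, hQ⟩ := Sylow.exists_subgroup_card_pow_succ (G := D)
      (((Fact.out : r.Prime).pow_dvd_iff_le_factorization Nat.card_pos.ne').mpr
        (show (Nat.card K).factorization r + 1 ≤ (Nat.card D).factorization r by omega))
      (H := P.subgroupOf D) (by
        rw [Nat.card_congr (Subgroup.subgroupOfEquivOfLe hPD).toEquiv, hcardP])
    obtain ⟨hQcard, hPQ⟩ := hQ
    haveI hn : ((P.subgroupOf D).subgroupOf Q).Normal := by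
      apply Subgroup.normal_of_index_eq_minFac_card
      have h1 := Subgroup.card_mul_index ((P.subgroupOf D).subgroupOf Q)
      rw [Nat.card_congr (Subgroup.subgroupOfEquivOfLe hPQ).toEquiv,
        Nat.card_congr (Subgroup.subgroupOfEquivOfLe hPD).toEquiv, hcardP, hQcard, pow_succ] at h1
      rw [Nat.eq_of_mul_eq_mul_left (pow_pos (Fact.out : r.Prime).pos _) h1, hQcard,
        Nat.pow_minFac (Nat.succ_ne_zero _), (Fact.out : r.Prime).minFac_eq]
    have hQN : ∀ q : Q, ((q : D) : G) ∈ N := fun q => by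
      rw [Subgroup.mem_normalizer_iff]
      intro p
      constructor
      · intro hp
        have := hn.conj_mem ⟨⟨p, hPD hp⟩, hPQ hp⟩ hp q
        exact this
      · intro hp
        have := hn.conj_mem (⟨⟨_, hPD hp⟩, hPQ (show (⟨_, hPD hp⟩ : D) ∈ P.subgroupOf D from hp)⟩ : Q)
          hp q⁻¹
        change ((q : D) : G)⁻¹ * (((q : D) : G) * p * ((q : D) : G)⁻¹) *
          (((q : D) : G)⁻¹)⁻¹ ∈ P at this
        simpa [mul_assoc] using this
    have hle : Nat.card Q ≤ Nat.card (T₀ : Subgroup M) := by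
      let φ : Q →* M :=
        { toFun := fun q => ⟨⟨((q : D) : G), hQN q⟩, (q : D).2⟩
          map_one' := rfl
          map_mul' := fun _ _ => rfl }
      have hinj : Function.Injective φ := fun a b e => Subtype.ext (Subtype.ext
        (congrArg (fun z : M => ((z : N) : G)) e))
      rw [Nat.card_congr (MonoidHom.ofInjective hinj).toEquiv]
      have hpg : IsPGroup r φ.range :=
        (IsPGroup.of_card (G := Q) hQcard).of_equiv (MonoidHom.ofInjective hinj)
      obtain ⟨S, hS⟩ := hpg.exists_le_sylow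
      calc Nat.card φ.range ≤ Nat.card (S : Subgroup M) := Subgroup.card_le_of_le hS
        _ = Nat.card (T₀ : Subgroup M) := by
          rw [Sylow.card_eq_multiplicity, Sylow.card_eq_multiplicity]
    rw [Subgroup.card_map_of_injective M.subtype_injective]
    have hlt : Nat.card P < Nat.card Q := by
      rw [hQcard, hcardP, pow_succ]
      exact lt_mul_of_one_lt_right (pow_pos (Fact.out : r.Prime).pos _) (Fact.out : r.Prime).one_lt
    omega
  -- an invariant orbit of the normalizer of `T`
  let N' : Subgroup N := Subgroup.normalizer (T : Set N)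
  have hcover' : N' ⊔ M = ⊤ := Sylow.normalizer_sup_eq_top T₀
  let M' : Subgroup N' := M.subgroupOf N'
  have hkM' : M'.index = D.index := (index_subgroupOf_eq hcover').trans hkM
  have hext' : Ext M' Y := fun g hg => hextY (g : N) hg
  have hu' : Uniq M' Y := fun g hg a b ha hb => huY (g : N) hg a b ha hb
  obtain ⟨y, hy⟩ := exists_orbit_invariant hext' hu'
  let Y' := orbit N' y
  haveI : Nonempty Y' := ⟨⟨y, mem_orbit_self y⟩⟩
  haveI : IsPretransitive M' Y' := ⟨fun a b => by
    obtain ⟨_, ⟨ga, rfl⟩⟩ := a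
    obtain ⟨_, ⟨gb, rfl⟩⟩ := b
    obtain ⟨ma, hma, hma'⟩ := hy ga
    obtain ⟨mb, hmb, hmb'⟩ := hy gb
    refine ⟨⟨mb * ma⁻¹, mul_mem hmb (inv_mem hma)⟩, Subtype.ext ?_⟩
    change (mb * ma⁻¹) • (ga • y) = gb • y
    rw [hma', hmb', mul_smul, inv_smul_smul]⟩
  have hu'' : Uniq M' Y' := fun g hg a b ha hb =>
    Subtype.ext (hu' g hg _ _ (congrArg Subtype.val ha) (congrArg Subtype.val hb))
  have hext'' : Ext M' Y' := ext_of_transitive hu''
  let T' : Subgroup N' := T.subgroupOf N'
  haveI : T'.Normal := Subgroup.normal_in_normalizer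
  let y' : Y' := ⟨y, mem_orbit_self y⟩
  have hTN' : T ≤ N' := Subgroup.le_normalizer
  have hmove : ¬ T' ≤ stabilizer N' y' := by
    intro hle
    have hfix : ∀ t ∈ T, ((t : N) : G) • (y : Ω) = (y : Ω) := fun t ht => by
      have h1 : (⟨t, hTN' ht⟩ : N') • y' = y' := hle (show (⟨t, hTN' ht⟩ : N') ∈ T' from ht)
      exact congrArg (fun z : Y' => ((z.1 : Y) : Ω)) h1
    obtain ⟨m, hmD, -, hmx⟩ := hYtr y.1 y.2
    let ψ : T →* stabilizer D x :=
      { toFun := fun t => ⟨⟨m⁻¹ * ((t : N) : G) * m, mul_mem (mul_mem (inv_mem hmD) (hTD t)) hmD⟩, by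
          rw [mem_stabilizer_iff]
          change (m⁻¹ * ((t : N) : G) * m) • x = x
          rw [mul_smul, mul_smul, hmx, hfix _ t.2, ← hmx, inv_smul_smul]⟩
        map_one' := by ext; simp
        map_mul' := fun a b => by ext; simp [mul_assoc] }
    have hinj : Function.Injective ψ := fun a b e => by
      have e' : m⁻¹ * ((a : N) : G) * m = m⁻¹ * ((b : N) : G) * m :=
        congrArg (fun z : stabilizer D x => ((z : D) : G)) e
      exact Subtype.ext (Subtype.ext (by simpa using e'))
    obtain ⟨i, hi⟩ := IsPGroup.iff_card.mp hTpg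
    have h1 : r ^ i ∣ Nat.card (stabilizer D x) := hi ▸ Subgroup.card_dvd_of_injective ψ hinj
    have h2 : Nat.card T ≤ Nat.card P := by
      rw [hi, hcardP, hcardK]
      exact Nat.pow_le_pow_right (Fact.out : r.Prime).pos
        (((Fact.out : r.Prime).pow_dvd_iff_le_factorization Nat.card_pos.ne').mp h1)
    omega
  have hsmall : Nat.card Y' < (M'.index + 1) ^ 2 := by
    rw [hkM']
    refine lt_of_le_of_lt ?_ hbig
    exact Nat.card_le_card_of_injective (fun z : Y' => ((z.1 : Y) : Ω))
      fun a b e => Subtype.ext (Subtype.ext e)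
  haveI htrT : IsPretransitive T' Y' := normal_transitive_of_large hext'' hsmall T' y' hmove
  have hY2 : 2 ≤ Nat.card Y' := by
    by_contra hlt
    haveI : Subsingleton Y' := Finite.card_le_one_iff_subsingleton.mp (by omega)
    exact hmove fun t _ => Subsingleton.elim _ _
  have hlow := index_lt hext'' y' hY2
  rw [hkM'] at hlow
  have horb := index_stabilizer_of_transitive T' y'
  have hPle : Nat.card P ≤ Nat.card (stabilizer T' y') := by
    let φ : P → stabilizer T' y' := fun p => ⟨⟨⟨⟨p.1, hPN p.2⟩, hTN' (hPT p.2)⟩, hPT p.2⟩, by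
      apply Subtype.ext; apply Subtype.ext
      exact y.2 p.1 p.2⟩
    exact Nat.card_le_card_of_injective φ fun a b e =>
      Subtype.ext (congrArg (fun z : stabilizer T' y' => (((z : T') : N') : N).1) e)
  have hT'card : Nat.card T' = Nat.card T := Nat.card_congr (Subgroup.subgroupOfEquivOfLe hTN').toEquiv
  have hfin : Nat.card Y' * r ^ (Nat.card K).factorization r ≤ r ^ (Nat.card D).factorization r := by
    calc Nat.card Y' * r ^ (Nat.card K).factorization r
        ≤ Nat.card Y' * Nat.card (stabilizer T' y') := Nat.mul_le_mul le_rfl (hcardP ▸ hPle)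
      _ = Nat.card T' := by rw [← horb, mul_comm]; exact (stabilizer T' y').card_mul_index
      _ ≤ _ := hT'card ▸ hTle
  rw [hcardD, pow_add, mul_comm (r ^ (Nat.card K).factorization r)] at hfin
  exact hlow.trans (Nat.le_of_mul_le_mul_right hfin (pow_pos (Fact.out : r.Prime).pos _))

/-- The degree is a prime power. -/
theorem exists_prime_pow (h : Ext D Ω) (x : Ω) (hk : 2 ≤ D.index) (h2 : 2 ≤ Nat.card Ω)
    (hbig : Nat.card Ω < (D.index + 1) ^ 2) :
    ∃ r a : ℕ, r.Prime ∧ 0 < a ∧ Nat.card Ω = r ^ a := by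
  set n := Nat.card Ω with hn
  have hr : n.minFac.Prime := Nat.minFac_prime (by omega)
  refine ⟨n.minFac, n.factorization n.minFac, hr,
    hr.factorization_pos_of_dvd (by omega) n.minFac_dvd, ?_⟩
  by_contra hne
  haveI := Fact.mk hr
  have h1 := succ_index_le_primePart h x hk hbig (r := n.minFac) n.minFac_dvd
  have hd : n.minFac ^ n.factorization n.minFac ∣ n := Nat.ordProj_dvd n _
  have hm1 : n / n.minFac ^ n.factorization n.minFac ≠ 1 := fun e => by
    have := Nat.div_mul_cancel hd
    rw [e, one_mul] at this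
    exact hne this.symm
  obtain ⟨s, hs, hsd⟩ := Nat.exists_prime_and_dvd hm1
  haveI := Fact.mk hs
  have hsn : s ∣ n := hsd.trans (Nat.div_dvd_of_dvd hd)
  have hsr : s ≠ n.minFac := fun e => Nat.not_dvd_ordCompl hr (by omega) (e ▸ hsd)
  have h2' := succ_index_le_primePart h x hk hbig (r := s) hsn
  have hcop : Nat.Coprime (n.minFac ^ n.factorization n.minFac) (s ^ n.factorization s) :=
    Nat.Coprime.pow _ _ ((Nat.coprime_primes hr hs).mpr (Ne.symm hsr))
  have h3 := Nat.le_of_dvd (by omega) (hcop.mul_dvd_of_dvd_of_dvd hd (Nat.ordProj_dvd n s))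
  have h4 := Nat.mul_le_mul h1 h2'
  nlinarith

/-- A regular elementary abelian Sylow subgroup. -/
structure RegSylow (D : Subgroup G) (Ω : Type*) [MulAction G Ω] (r : ℕ) where
  R : Subgroup G
  le : R ≤ D
  comm : ∀ a ∈ R, ∀ b ∈ R, Commute a b
  exp : ∀ a ∈ R, a ^ r = 1
  trans : IsPretransitive R Ω
  free : ∀ a ∈ R, ∀ z : Ω, a • z = z → a = 1
  coprime : ∀ x : Ω, (Nat.card (stabilizer D x)).Coprime r
  cover : Subgroup.normalizer (R : Set G) ⊔ D = ⊤

/-- The structure of the Sylow subgroup for the prime of the degree. -/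
theorem exists_regSylow [FaithfulSMul G Ω] (h : Ext D Ω) (x : Ω)
    (hbig : Nat.card Ω < (D.index + 1) ^ 2) {r a : ℕ} [Fact r.Prime] (ha : 0 < a)
    (hn : Nat.card Ω = r ^ a) : Nonempty (RegSylow D Ω r) := by
  haveI : Nonempty Ω := ⟨x⟩
  obtain ⟨htr, hu⟩ := h.transitive
  obtain ⟨R₀⟩ : Nonempty (Sylow r D) := inferInstance
  let R : Subgroup G := (R₀ : Subgroup D).map D.subtype
  have hRD : R ≤ D := Subgroup.map_subtype_le _
  have hcardR : Nat.card R = r ^ (Nat.card D).factorization r := by
    rw [Subgroup.card_map_of_injective D.subtype_injective, Sylow.card_eq_multiplicity]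
  have hRpg : IsPGroup r R := IsPGroup.of_card hcardR
  have hDfac : ∀ z : Ω, (Nat.card D).factorization r =
      (Nat.card (stabilizer D z)).factorization r + a := fun z => by
    rw [← card_stab_mul h z, Nat.factorization_mul Nat.card_pos.ne' Nat.card_pos.ne',
      Finsupp.add_apply, hn, (Fact.out : r.Prime).factorization_pow, Finsupp.single_eq_same]
  haveI hRtr : IsPretransitive R Ω := by
    have key : ∀ z : Ω, orbit R z = Set.univ := fun z => by
      apply Set.eq_of_subset_of_ncard_le (Set.subset_univ _) _ (Set.toFinite _)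
      rw [Set.ncard_univ, ← index_stabilizer]
      have hdvd : Nat.card (stabilizer R z) ∣ Nat.card (stabilizer D z) :=
        Subgroup.card_dvd_of_injective
          ({ toFun := fun g => ⟨⟨(g : R).1, hRD (g : R).2⟩, g.2⟩
             map_one' := rfl
             map_mul' := fun _ _ => rfl } : stabilizer R z →* stabilizer D z)
          (fun g g' e => Subtype.ext (Subtype.ext
            (congrArg (fun w : stabilizer D z => ((w : D) : G)) e)))
      obtain ⟨i, hi⟩ := IsPGroup.iff_card.mp (hRpg.to_subgroup (stabilizer R z))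
      have hile : i ≤ (Nat.card (stabilizer D z)).factorization r :=
        ((Fact.out : r.Prime).pow_dvd_iff_le_factorization Nat.card_pos.ne').mp (hi ▸ hdvd)
      have h1 := (stabilizer R z).card_mul_index
      rw [hi, hcardR, hDfac z, pow_add] at h1
      rw [hn]
      have h2 : r ^ i ≤ r ^ (Nat.card (stabilizer D z)).factorization r :=
        Nat.pow_le_pow_right (Fact.out : r.Prime).pos hile
      by_contra hlt
      have h3 := Nat.mul_lt_mul_of_le_of_lt h2 (not_le.mp hlt) (pow_pos (Fact.out : r.Prime).pos _)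
      omega
    exact ⟨fun u v => by
      have hv : v ∈ orbit R u := key u ▸ Set.mem_univ v
      exact hv⟩
  let N : Subgroup G := Subgroup.normalizer (R : Set G)
  have hRN : R ≤ N := Subgroup.le_normalizer
  have hcover : N ⊔ D = ⊤ := Sylow.normalizer_sup_eq_top R₀
  let M : Subgroup N := D.subgroupOf N
  haveI : IsPretransitive M Ω := ⟨fun u v => by
    obtain ⟨g, hg⟩ := exists_smul_eq R u v
    exact ⟨⟨⟨g.1, hRN g.2⟩, hRD g.2⟩, hg⟩⟩
  haveI : IsPretransitive N Ω := ⟨fun u v => by
    obtain ⟨g, hg⟩ := exists_smul_eq R u v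
    exact ⟨⟨g.1, hRN g.2⟩, hg⟩⟩
  have hextN : Ext M Ω := ext_of_transitive fun g hg u v => hu (g : G) hg u v
  have hbigN : Nat.card Ω < (M.index + 1) ^ 2 := by rwa [index_subgroupOf_eq hcover]
  have hchar : ∀ A : Subgroup G, A ≤ R → A ≠ ⊥ → (∀ g ∈ N, ∀ u ∈ A, g * u * g⁻¹ ∈ A) →
      IsPretransitive A Ω := by
    intro A hAR hA hinv
    let A' : Subgroup N := A.subgroupOf N
    haveI : A'.Normal := ⟨fun u hu' g => hinv _ g.2 _ hu'⟩
    obtain ⟨u, hu1, hune⟩ := A.bot_or_exists_ne_one.resolve_left hA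
    obtain ⟨z, hz⟩ : ∃ z : Ω, u • z ≠ z := by
      by_contra hall
      push Not at hall
      exact hune (FaithfulSMul.eq_of_smul_eq_smul (α := Ω) fun z => by rw [hall z, one_smul])
    haveI := normal_transitive_of_large hextN hbigN A' z fun hle =>
      hz (hle (show (⟨u, hRN (hAR hu1)⟩ : N) ∈ A' from hu1))
    exact ⟨fun p q => by
      obtain ⟨w, hw⟩ := exists_smul_eq A' p q
      exact ⟨⟨((w : N) : G), w.2⟩, hw⟩⟩
  have hZne : (Subgroup.center R).map R.subtype ≠ ⊥ := by
    haveI : Nontrivial R := Finite.one_lt_card_iff_nontrivial.mp (by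
      rw [hcardR, hDfac x]
      exact Nat.one_lt_pow (by omega) (Fact.out : r.Prime).one_lt)
    haveI := hRpg.center_nontrivial
    intro e
    rw [Subgroup.map_eq_bot_iff_of_injective _ R.subtype_injective] at e
    exact (Subgroup.nontrivial_iff_ne_bot _).mp inferInstance e
  let Z : Subgroup G := (Subgroup.center R).map R.subtype
  have hZcomm : ∀ u ∈ Z, ∀ v ∈ R, Commute u v := by
    rintro _ ⟨u, hu', rfl⟩ v hv
    exact (congrArg Subtype.val (Subgroup.mem_center_iff.mp hu' ⟨v, hv⟩)).symm
  have hZtr : IsPretransitive Z Ω := hchar Z (Subgroup.map_subtype_le _) hZne fun g hg => by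
    rintro _ ⟨u, hu', rfl⟩
    refine ⟨⟨g * u.1 * g⁻¹, (Subgroup.mem_normalizer_iff.mp hg u.1).mp u.2⟩, ?_, rfl⟩
    refine Subgroup.mem_center_iff.mpr fun v => Subtype.ext ?_
    have hv' : g⁻¹ * (v : G) * g ∈ R := by
      have := (Subgroup.mem_normalizer_iff.mp (inv_mem hg) v.1).mp v.2
      simpa using this
    have e := congrArg Subtype.val (Subgroup.mem_center_iff.mp hu' ⟨_, hv'⟩)
    change (v : G) * (g * u.1 * g⁻¹) = g * u.1 * g⁻¹ * v
    change g⁻¹ * (v : G) * g * u.1 = u.1 * (g⁻¹ * (v : G) * g) at e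
    calc (v : G) * (g * u.1 * g⁻¹) = g * (g⁻¹ * (v : G) * g * u.1) * g⁻¹ := by group
      _ = g * (u.1 * (g⁻¹ * (v : G) * g)) * g⁻¹ := by rw [e]
      _ = _ := by group
  have hfree : ∀ u ∈ R, ∀ z : Ω, u • z = z → u = 1 := fun u hu' z hz => by
    apply FaithfulSMul.eq_of_smul_eq_smul (α := Ω)
    intro q
    obtain ⟨c, hc⟩ := exists_smul_eq Z z q
    rw [one_smul, ← hc]
    change u • ((c : G) • z) = (c : G) • z
    rw [← mul_smul, ← (hZcomm _ c.2 _ hu').eq, mul_smul, hz]
  have hZR : ∀ u ∈ R, u ∈ Z := fun u hu' => by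
    obtain ⟨c, hc⟩ := exists_smul_eq Z x (u • x)
    have h1 : (c : G)⁻¹ * u = 1 := hfree _ (mul_mem (inv_mem (Subgroup.map_subtype_le _ c.2)) hu') x
      (by rw [mul_smul, ← hc]; exact inv_smul_smul _ _)
    rw [show u = c from (inv_mul_eq_one.mp h1).symm]
    exact c.2
  have hcomm : ∀ u ∈ R, ∀ v ∈ R, Commute u v := fun u hu' v hv => hZcomm u (hZR u hu') v hv
  have hcardRn : Nat.card R = r ^ a := by
    rw [← hn, ← index_stabilizer_of_transitive R x,
      show stabilizer R x = ⊥ from (Subgroup.eq_bot_iff_forall _).mpr fun u hu' =>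
        Subtype.ext (hfree u.1 u.2 x hu'), Subgroup.index_bot]
  have hexp : ∀ u ∈ R, u ^ r = 1 := by
    let A : Subgroup G :=
      { carrier := {u | u ∈ R ∧ u ^ r = 1}
        one_mem' := ⟨one_mem _, one_pow _⟩
        mul_mem' := fun {u v} hu' hv => ⟨mul_mem hu'.1 hv.1, by
          rw [(hcomm u hu'.1 v hv.1).mul_pow, hu'.2, hv.2, one_mul]⟩
        inv_mem' := fun {u} hu' => ⟨inv_mem hu'.1, by rw [inv_pow, hu'.2, inv_one]⟩ }
    have hA : A ≠ ⊥ := by
      obtain ⟨u, hu'⟩ := exists_prime_orderOf_dvd_card' r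
        (show r ∣ Nat.card R by rw [hcardRn]; exact dvd_pow_self r ha.ne')
      intro e
      have hm : (u : G) ∈ A := ⟨u.2, by
        rw [← Subgroup.coe_pow, ← hu', pow_orderOf_eq_one, Subgroup.coe_one]⟩
      rw [e, Subgroup.mem_bot] at hm
      rw [show u = 1 from Subtype.ext hm, orderOf_one] at hu'
      exact (Fact.out : r.Prime).one_lt.ne' hu'.symm
    haveI := hchar A (fun u hu' => hu'.1) hA fun g hg u hu' =>
      ⟨(Subgroup.mem_normalizer_iff.mp hg u).mp hu'.1, by
        rw [conj_pow, hu'.2, mul_one, mul_inv_cancel]⟩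
    intro u hu'
    obtain ⟨c, hc⟩ := exists_smul_eq A x (u • x)
    have h1 : (c : G)⁻¹ * u = 1 := hfree _ (mul_mem (inv_mem c.2.1) hu') x
      (by rw [mul_smul, ← hc]; exact inv_smul_smul _ _)
    rw [show u = c from (inv_mul_eq_one.mp h1).symm]
    exact c.2.2
  refine ⟨⟨R, hRD, hcomm, hexp, hRtr, hfree, fun z => ?_, hcover⟩⟩
  have hf : (Nat.card D).factorization r = a :=
    Nat.pow_right_injective (Fact.out : r.Prime).two_le (hcardR.symm.trans hcardRn)
  have hz := hDfac z
  refine ((Nat.Prime.coprime_iff_not_dvd Fact.out).mpr fun hd => ?_).symm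
  have := (Fact.out : r.Prime).factorization_pos_of_dvd Nat.card_pos.ne' hd
  omega

end Setup

end Cfsg.Agent.DerangeIdx
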